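import Groth.Agent.L27.Colim.Etale
import Mathlib.GroupTheory.Torsion
import Mathlib.Data.Nat.Factorial.Basic

/-! # Torsion sheaves are the union of their bounded torsion subsheaves -/

universe u

open CategoryTheory CategoryTheory.Limits AlgebraicGeometry Opposite

set_option backward.isDefEq.respectTransparency.types false
set_option linter.style.haveILetI false

namespace Groth.L27.Colim

variable {X : Scheme.{u}} (F : EtCoh.Ab X)

instance : IsFiltered (AsSmall.{u} ℕ) := IsFiltered.of_equivalence AsSmall.equiv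

/-- Multiplication by `n!`. -/
noncomputable abbrev facMap (n : ℕ) : F ⟶ F := n.factorial • 𝟙 F

theorem hom_nsmul_app {G H : EtCoh.Ab X} (φ : G ⟶ H) (m : ℕ) (U : X.Etale) (s : G.obj.obj (op U)) :
    (m • φ).hom.app (op U) s = m • φ.hom.app (op U) s := by
  induction m with
  | zero => simp only [zero_nsmul]; rfl
  | succ m ih => simp only [succ_nsmul]; exact congrArg (· + φ.hom.app (op U) s) ih

theorem ker_facMap {n m : ℕ} (h : n ≤ m) : kernel.ι (facMap F n) ≫ facMap F m = 0 := by
  obtain ⟨k, hk⟩ := Nat.factorial_dvd_factorial h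
  rw [show facMap F m = k • facMap F n by rw [facMap, facMap, hk, Nat.mul_comm, mul_nsmul'],
    Preadditive.comp_nsmul, kernel.condition, nsmul_zero]

/-- The filtration by bounded torsion. -/
noncomputable def torDiag : AsSmall.{u} ℕ ⥤ EtCoh.Ab X where
  obj n := kernel (facMap F (AsSmall.down.obj n))
  map {n m} h := kernel.lift _ (kernel.ι (facMap F (AsSmall.down.obj n))) (ker_facMap F (leOfHom (AsSmall.down.map h)))
  map_id n := equalizer.hom_ext (by simp)
  map_comp f g := equalizer.hom_ext (by simp)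

/-- The inclusions. -/
noncomputable def torCocone : Cocone (torDiag F) where
  pt := F
  ι :=
    { app := fun n => kernel.ι (facMap F (AsSmall.down.obj n))
      naturality := fun n m h => by
        simp [torDiag] }

theorem exists_of_nsmul_eq_zero {U : X.Etale} {n : ℕ} (s : F.obj.obj (op U)) (h : n.factorial • s = 0) :
    ∃ t : (kernel (facMap F n)).obj.obj (op U), (kernel.ι (facMap F n)).hom.app (op U) t = s := by
  let Φ := sheafToPresheaf X.smallEtaleTopology AddCommGrpCat.{u + 1} ⋙ (evaluation _ _).obj (op U)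
  have hmono : Mono (kernel.ι (facMap F n)) := inferInstance
  have hex := ((ShortComplex.exact_of_f_is_kernel (ShortComplex.mk _ _ (kernel.condition (facMap F n)))
    (kernelIsKernel _))).map_of_mono_of_preservesKernel Φ hmono inferInstance
  rw [ShortComplex.ab_exact_iff] at hex
  refine hex s ((hom_nsmul_app (𝟙 F) n.factorial U s).trans ?_)
  exact h

theorem app_kernel_ι_injective (n : ℕ) (U : X.Etale) :
    Function.Injective ((kernel.ι (facMap F n)).hom.app (op U)) := by
  haveI : Mono (((sheafToPresheaf X.smallEtaleTopology AddCommGrpCat.{u + 1}).map (kernel.ι (facMap F n))).app (op U)) :=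
    inferInstance
  exact (AddCommGrpCat.mono_iff_injective
    (((sheafToPresheaf X.smallEtaleTopology AddCommGrpCat.{u + 1}).map (kernel.ι (facMap F n))).app (op U))).1 this

theorem isIso_desc_torCocone (hF : EtCoh.IsTorsion F) : IsIso (colimit.desc _ (torCocone F)) := by
  let d := colimit.desc (torDiag F) (torCocone F)
  have hι : ∀ (j : AsSmall.{u} ℕ) (V : X.Etale) (y : ((torDiag F).obj j).obj.obj (op V)),
      d.hom.app (op V) ((colimit.ι (torDiag F) j).hom.app (op V) y) = (kernel.ι (facMap F (AsSmall.down.obj j))).hom.app (op V) y :=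
    fun j V y => congr($(colimit.ι_desc (torCocone F) j).hom.app (op V) y)
  have h1 : Sheaf.IsLocallyInjective d := by
    refine ⟨fun {U} x y h => (EtSite.mem_topology_iff _).2 fun u => ?_⟩
    obtain ⟨R, hR, hR'⟩ := (locally_rep (colimit.isColimit (torDiag F)) U.unop).1 (x - y)
    obtain ⟨V, g, v, hg, hv⟩ := (EtSite.mem_topology_iff R).1 hR u
    obtain ⟨j, z, hz⟩ := hR' V g hg
    refine ⟨V, g, v, ?_, hv⟩
    show (colimit (torDiag F)).obj.map g.op x = (colimit (torDiag F)).obj.map g.op y
    rw [← sub_eq_zero, ← map_sub]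
    refine hz.symm.trans ?_
    have hz0 : z = 0 := app_kernel_ι_injective F (AsSmall.down.obj j) V (by
      refine Eq.trans ?_ (map_zero ((kernel.ι (facMap F (AsSmall.down.obj j))).hom.app (op V)).hom).symm
      refine (hι j V z).symm.trans ?_
      refine (congrArg (d.hom.app (op V)) hz).trans ?_
      refine (NatTrans.naturality_apply d.hom g.op (x - y)).trans ?_
      rw [map_sub (d.hom.app (op U.unop)).hom x y]
      exact (congrArg (F.obj.map g.op) (sub_eq_zero.2 h)).trans (map_zero _))
    rw [hz0]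
    exact map_zero ((colimit.ι (torDiag F) j).hom.app (op V)).hom
  have h2 : Sheaf.IsLocallySurjective d := by
    refine ⟨fun {U} s => (EtSite.mem_topology_iff _).2 fun u => ?_⟩
    obtain ⟨V, g, ⟨v, hv⟩, hfin⟩ := hF U s u
    obtain ⟨m, hm, hms⟩ := hfin.exists_nsmul_eq_zero
    obtain ⟨t, ht⟩ := exists_of_nsmul_eq_zero F (n := m) (F.obj.map g.op s) (by
      obtain ⟨k, hk⟩ := Nat.dvd_factorial hm le_rfl
      rw [hk, mul_nsmul, hms, nsmul_zero])
    exact ⟨V, g, v, ⟨(colimit.ι (torDiag F) (AsSmall.up.obj m)).hom.app (op V) t, (hι _ V t).trans ht⟩, hv⟩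
  exact (Sheaf.isLocallyBijective_iff_isIso d).1 ⟨h1, h2⟩

theorem isColimit_torCocone (hF : EtCoh.IsTorsion F) : Nonempty (IsColimit (torCocone F)) := by
  haveI := isIso_desc_torCocone F hF
  exact ⟨IsColimit.ofIsoColimit (colimit.isColimit _)
    (Cocone.ext (asIso (colimit.desc _ (torCocone F))) fun j => colimit.ι_desc _ _)⟩

theorem H_map_nsmul {G H : EtCoh.Ab X} (φ : G ⟶ H) (n m : ℕ) (x : EtCoh.H X G n) :
    Sheaf.H.map (m • φ) n x = m • Sheaf.H.map φ n x := by
  induction m with
  | zero =>
    rw [zero_nsmul, zero_nsmul]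
    have := Sheaf.H.map_add_apply (0 : G ⟶ H) 0 x
    rw [add_zero] at this
    exact left_eq_add.1 this
  | succ m ih => rw [succ_nsmul, succ_nsmul, Sheaf.H.map_add_apply, ih]

theorem isAddTorsion_H [CompactSpace X] [QuasiSeparatedSpace X] (hF : EtCoh.IsTorsion F) (n : ℕ) :
    IsAddTorsion (EtCoh.H X F n) := by
  haveI : AB5OfSize.{u, u} (EtCoh.Ab X) := AB5OfSize_shrink.{u, u, u + 1, u + 1} _
  haveI : HasExactColimitsOfShape (AsSmall.{u} ℕ) (EtCoh.Ab X) := inferInstance
  obtain ⟨hc⟩ := isColimit_torCocone F hF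
  intro x
  obtain ⟨j, η, rfl⟩ := (commutes good (EtCore.topIsTerminal X) (hT₀ := ⟨‹_›, ‹_›⟩) n (torDiag F) (torCocone F) hc).1 x
  refine isOfFinAddOrder_iff_nsmul_eq_zero.2 ⟨(AsSmall.down.obj j).factorial, Nat.factorial_pos _, ?_⟩
  refine (map_nsmul (Sheaf.H.map ((torCocone F).ι.app j) n) _ η).symm.trans ?_
  refine (congrArg _ ?_).trans (map_zero _)
  have h0 : (AsSmall.down.obj j).factorial • 𝟙 (kernel (facMap F (AsSmall.down.obj j))) = 0 := by
    rw [← cancel_mono (kernel.ι (facMap F (AsSmall.down.obj j))), Preadditive.nsmul_comp, Category.id_comp, zero_comp,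
      ← kernel.condition (facMap F (AsSmall.down.obj j)), Preadditive.comp_nsmul, Category.comp_id]
  have := H_map_nsmul (𝟙 ((torDiag F).obj j)) n (AsSmall.down.obj j).factorial η
  rw [Sheaf.H.map_id_apply] at this
  rw [← this, show (AsSmall.down.obj j).factorial • 𝟙 ((torDiag F).obj j) = 0 from h0]
  exact (congrArg (fun φ => Sheaf.H.map φ n η) (zero_nsmul (𝟙 _)).symm).trans ((H_map_nsmul _ n 0 η).trans (zero_nsmul _))

end Groth.L27.Colim
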