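import Groth.Agent.L27.Colim.FreeSheaf
import Mathlib.CategoryTheory.Abelian.RightDerived
import Mathlib.CategoryTheory.Abelian.Injective.Ext
import Mathlib.AlgebraicGeometry.Morphisms.QuasiSeparated

/-! # Higher direct images of torsion sheaves are torsion -/

universe u

open CategoryTheory CategoryTheory.Limits AlgebraicGeometry Opposite CategoryTheory.Abelian

set_option backward.isDefEq.respectTransparency.types false
set_option linter.style.haveILetI false

namespace Groth.L27.Colim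

variable {X Y : Scheme.{u}}

theorem isTorsion_of_iso {F G : EtCoh.Ab X} (e : F ≅ G) (hF : EtCoh.IsTorsion F) : EtCoh.IsTorsion G :=
  fun U s x => by
    obtain ⟨V, g, hv, hfin⟩ := hF U (e.inv.hom.app (op U) s) x
    refine ⟨V, g, hv, ?_⟩
    have h : (e.hom.hom.app (op V)) (F.obj.map g.op (e.inv.hom.app (op U) s)) = G.obj.map g.op s :=
      (NatTrans.naturality_apply e.hom.hom g.op _).trans
        (congrArg (G.obj.map g.op) congr($(e.inv_hom_id).hom.app (op U) s))
    rw [← h]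
    exact AddMonoidHom.isOfFinAddOrder (e.hom.hom.app (op V)).hom hfin

/-- An etale neighbourhood whose base change is quasi-compact and quasi-separated. -/
theorem exists_qcqs_nhd (f : X ⟶ Y) [QuasiCompact f] [QuasiSeparated f] (U : Y.Etale) (x : U.left) :
    ∃ (V : Y.Etale) (g : V ⟶ U) (v : V.left), g.left.base v = x ∧ Qcqs ((EtCoh.bc f).obj V) := by
  obtain ⟨_, ⟨O', hO, rfl⟩, hx, -⟩ := U.left.isBasis_affineOpens.exists_subset_of_mem_open
    (Set.mem_univ x) isOpen_univ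
  let O : U.left.Opens := O'
  replace hO : IsAffineOpen O := hO
  haveI : AlgebraicGeometry.Etale U.hom := U.prop
  refine ⟨Scheme.Etale.mk (O.ι ≫ U.hom), MorphismProperty.Over.homMk O.ι rfl, ⟨x, hx⟩, rfl, ?_⟩
  haveI : IsAffine O.toScheme := hO
  exact ⟨@QuasiCompact.compactSpace_of_compactSpace _ _ (pullback.fst (O.ι ≫ U.hom) f)
    (MorphismProperty.pullback_fst (P := @QuasiCompact) (O.ι ≫ U.hom) f ‹_›) (inferInstanceAs (CompactSpace O.toScheme)),
    @quasiSeparatedSpace_of_quasiSeparated _ _ (pullback.fst (O.ι ≫ U.hom) f)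
      (inferInstanceAs (QuasiSeparatedSpace O.toScheme))
      (MorphismProperty.pullback_fst (P := @QuasiSeparated) (O.ι ≫ U.hom) f ‹_›)⟩

theorem nsmul_extMk {Z F : EtCoh.Ab X} (R : InjectiveResolution F) {n : ℕ} (φ : Z ⟶ R.cocomplex.X n)
    (hφ : φ ≫ R.cocomplex.d n (n + 1) = 0) (m : ℕ) :
    ∃ h : (m • φ) ≫ R.cocomplex.d n (n + 1) = 0,
      R.extMk (m • φ) (n + 1) rfl h = m • R.extMk φ (n + 1) rfl hφ := by
  induction m with
  | zero => exact ⟨by simp, by simp⟩
  | succ m ih =>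
    obtain ⟨h, he⟩ := ih
    refine ⟨by rw [succ_nsmul, Preadditive.add_comp, h, hφ, add_zero], ?_⟩
    refine Eq.trans ?_ (succ_nsmul (R.extMk φ (n + 1) rfl hφ) m).symm
    rw [← he, R.add_extMk]
    congr 1
    exact succ_nsmul φ m

theorem isTorsion_homology (f : X ⟶ Y) [EtCoh.BCCont f] [QuasiCompact f] [QuasiSeparated f] {F : EtCoh.Ab X}
    (hF : EtCoh.IsTorsion F) (R : InjectiveResolution F) (p : ℕ) :
    EtCoh.IsTorsion ((((EtCoh.push f).mapHomologicalComplex _).obj R.cocomplex).homology (p + 1)) := by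
  intro U s x
  let K := ((EtCoh.push f).mapHomologicalComplex (ComplexShape.up ℕ)).obj R.cocomplex
  have : Sheaf.IsLocallySurjective (K.homologyπ (p + 1)) :=
    (Sheaf.isLocallySurjective_iff_epi' (φ := K.homologyπ (p + 1))).2 inferInstance
  obtain ⟨V₁, g₁, v₁, ⟨c₁, hc₁⟩, hv₁⟩ :=
    (EtSite.mem_topology_iff _).1 (Presheaf.imageSieve_mem Y.smallEtaleTopology (K.homologyπ (p + 1)).hom s) x
  obtain ⟨V, g, v, hv, hq⟩ := exists_qcqs_nhd f V₁ v₁
  refine ⟨V, g ≫ g₁, ⟨v, (Scheme.Hom.comp_apply _ _ _).trans ((congrArg g₁.left hv).trans hv₁)⟩, ?_⟩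
  let c := (K.cycles (p + 1)).obj.map g.op c₁
  have hc : (K.homologyπ (p + 1)).hom.app (op V) c = (K.homology (p + 1)).obj.map (g ≫ g₁).op s :=
    (NatTrans.naturality_apply (K.homologyπ (p + 1)).hom g.op c₁).trans
      ((congrArg ((K.homology (p + 1)).obj.map g.op) hc₁).trans (map_comp (K.homology (p + 1)) g g₁ s))
  let W := (EtCoh.bc f).obj V
  let z : (R.cocomplex.X (p + 1)).obj.obj (op W) := (K.iCycles (p + 1)).hom.app (op V) c
  let φ : freeSh W ⟶ R.cocomplex.X (p + 1) := (homEquiv W _).symm z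
  have hφ : φ ≫ R.cocomplex.d (p + 1) (p + 1 + 1) = 0 := by
    apply (homEquiv W _).injective
    rw [homEquiv_comp, AddEquiv.apply_symm_apply, map_zero]
    exact congr($(K.iCycles_d (p + 1) (p + 1 + 1)).hom.app (op V) c)
  obtain ⟨m, hm, hm0⟩ :=
    isOfFinAddOrder_iff_nsmul_eq_zero.1 (isAddTorsion_ext W hq F hF (p + 1) (R.extMk φ (p + 1 + 1) rfl hφ))
  obtain ⟨h, he⟩ := nsmul_extMk R φ hφ m
  obtain ⟨ψ, hψ⟩ := (R.extMk_eq_zero_iff (m • φ) (p + 1 + 1) rfl h p rfl).1 (he.trans hm0)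
  refine isOfFinAddOrder_iff_nsmul_eq_zero.2 ⟨m, hm, ?_⟩
  let y : (K.X p).obj.obj (op V) := homEquiv W _ ψ
  have hy : m • c = (K.toCycles p (p + 1)).hom.app (op V) y := by
    have hmono : Mono ((sheafToPresheaf Y.smallEtaleTopology AddCommGrpCat.{u + 1}).map (K.iCycles (p + 1))) :=
      inferInstance
    apply (AddCommGrpCat.mono_iff_injective _).1 ((NatTrans.mono_iff_mono_app _).1 hmono (op V))
    refine (map_nsmul ((K.iCycles (p + 1)).hom.app (op V)).hom m c).trans ?_
    refine Eq.trans ?_ congr($(K.toCycles_i p (p + 1)).hom.app (op V) y).symm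
    show m • z = (R.cocomplex.d p (p + 1)).hom.app (op W) (homEquiv W _ ψ)
    rw [← homEquiv_comp, hψ, map_nsmul, AddEquiv.apply_symm_apply]
  rw [← hc, ← map_nsmul, hy]
  exact congr($(K.toCycles_comp_homologyπ p (p + 1)).hom.app (op V) y)

theorem isTorsion_push (f : X ⟶ Y) [EtCoh.BCCont f] [QuasiCompact f] [QuasiSeparated f] {F : EtCoh.Ab X}
    (hF : EtCoh.IsTorsion F) : EtCoh.IsTorsion ((EtCoh.push f).obj F) := fun U s x => by
  obtain ⟨V, g, v, hv, hq⟩ := exists_qcqs_nhd f U x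
  refine ⟨V, g, ⟨v, hv⟩, ?_⟩
  let W := (EtCoh.bc f).obj V
  let t : F.obj.obj (op W) := ((EtCoh.push f).obj F).obj.map g.op s
  have h := isAddTorsion_ext W hq F hF 0 ((ExtRep.eqv (rep W) F).symm t)
  have h' := AddMonoidHom.isOfFinAddOrder (ExtRep.eqv (rep W) F).toAddMonoidHom h
  rwa [AddEquiv.coe_toAddMonoidHom, AddEquiv.apply_symm_apply] at h'

theorem isTorsion_Rpush (f : X ⟶ Y) [EtCoh.BCCont f] [QuasiCompact f] [QuasiSeparated f] {F : EtCoh.Ab X}
    (hF : EtCoh.IsTorsion F) (n : ℕ) : EtCoh.IsTorsion ((EtCoh.Rpush f n).obj F) := by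
  cases n with
  | zero => exact isTorsion_of_iso ((EtCoh.push f).rightDerivedZeroIsoSelf.app F).symm (isTorsion_push f hF)
  | succ p =>
    exact isTorsion_of_iso ((injectiveResolution F).isoRightDerivedObj (EtCoh.push f) (p + 1)).symm
      (isTorsion_homology f hF (injectiveResolution F) p)

end Groth.L27.Colim
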