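import Groth.Agent.L27.Colim.ExtRep
import Groth.Agent.L27.Colim.Torsion
import Mathlib.Algebra.Category.Grp.Adjunctions

/-! # The free abelian sheaf on an etale scheme -/

universe u

open CategoryTheory CategoryTheory.Limits AlgebraicGeometry Opposite CategoryTheory.Abelian

set_option backward.isDefEq.respectTransparency.types false
set_option linter.style.haveILetI false

namespace Groth.L27.Colim

variable {X : Scheme.{u}} (U : X.Etale)

/-- The free presheaf. -/
noncomputable abbrev freePre : X.Etaleᵒᵖ ⥤ AddCommGrpCat.{u + 1} :=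
  (yoneda.obj U ⋙ uliftFunctor.{u + 1, u}) ⋙ AddCommGrpCat.free.{u + 1}

/-- The free sheaf. -/
noncomputable abbrev freeSh : EtCoh.Ab X :=
  (presheafToSheaf X.smallEtaleTopology AddCommGrpCat.{u + 1}).obj (freePre U)

/-- The universal section. -/
noncomputable def univ : (freeSh U).obj.obj (op U) :=
  (toSheafify X.smallEtaleTopology (freePre U)).app (op U)
    (FreeAbelianGroup.of (ULift.up (𝟙 U) : ULift.{u + 1, u} (U ⟶ U)))

/-- The presheaf map given by a section. -/
noncomputable def ofSec (F : EtCoh.Ab X) (s : F.obj.obj (op U)) : freePre U ⟶ F.obj where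
  app V := AddCommGrpCat.ofHom (FreeAbelianGroup.lift fun g : ULift.{u + 1, u} (V.unop ⟶ U) => F.obj.map g.down.op s)
  naturality V W f := by
    refine AddCommGrpCat.hom_ext (FreeAbelianGroup.lift_ext _ _ fun g => ?_)
    change FreeAbelianGroup.lift (fun g : ULift.{u + 1, u} (W.unop ⟶ U) => F.obj.map g.down.op s)
      (FreeAbelianGroup.map _ (FreeAbelianGroup.of g)) =
      F.obj.map f (FreeAbelianGroup.lift (fun g : ULift.{u + 1, u} (V.unop ⟶ U) => F.obj.map g.down.op s) (FreeAbelianGroup.of g))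
    rw [FreeAbelianGroup.map_of_apply, FreeAbelianGroup.lift_apply_of, FreeAbelianGroup.lift_apply_of]
    exact (map_comp F f.unop g.down s).symm

theorem ext_univ {F : EtCoh.Ab X} (φ ψ : freeSh U ⟶ F) (h : φ.hom.app (op U) (univ U) = ψ.hom.app (op U) (univ U)) :
    φ = ψ := by
  refine ObjectProperty.hom_ext _ (sheafify_hom_ext _ _ _ F.property ?_)
  refine NatTrans.ext (funext fun V => AddCommGrpCat.hom_ext (FreeAbelianGroup.lift_ext _ _ fun g => ?_))
  have e : ∀ χ : freePre U ⟶ F.obj, χ.app V (FreeAbelianGroup.of g) =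
      F.obj.map g.down.op (χ.app (op U) (FreeAbelianGroup.of (ULift.up (𝟙 U) : ULift.{u + 1, u} (U ⟶ U)))) := fun χ => by
    refine Eq.trans (congrArg (χ.app V) ?_) (NatTrans.naturality_apply χ g.down.op _)
    refine Eq.trans ?_ (FreeAbelianGroup.map_of_apply _).symm
    exact congrArg FreeAbelianGroup.of (congrArg ULift.up (Category.comp_id g.down).symm)
  exact (e (toSheafify _ (freePre U) ≫ φ.hom)).trans
    ((congrArg (F.obj.map g.down.op) h).trans (e (toSheafify _ (freePre U) ≫ ψ.hom)).symm)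

/-- Maps out of the free sheaf are sections. -/
noncomputable def homEquiv (F : EtCoh.Ab X) : (freeSh U ⟶ F) ≃+ F.obj.obj (op U) :=
  AddEquiv.ofBijective
    ({ toFun := fun φ => φ.hom.app (op U) (univ U)
       map_zero' := rfl
       map_add' := fun _ _ => rfl } : (freeSh U ⟶ F) →+ F.obj.obj (op U))
    ⟨fun φ ψ h => ext_univ U φ ψ h, fun s => ⟨⟨sheafifyLift _ (ofSec U F s) F.property⟩, by
      show (sheafifyLift _ (ofSec U F s) F.property).app (op U) ((toSheafify _ (freePre U)).app (op U) _) = s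
      refine (congr($(toSheafify_sheafifyLift _ (ofSec U F s) F.property).app (op U) _)).trans ?_
      refine (FreeAbelianGroup.lift_apply_of _ _).trans ?_
      exact congr($(F.obj.map_id (op U)) s)⟩⟩

theorem homEquiv_comp {F G : EtCoh.Ab X} (f : F ⟶ G) (φ : freeSh U ⟶ F) :
    homEquiv U G (φ ≫ f) = f.hom.app (op U) (homEquiv U F φ) := rfl

/-- The free sheaf represents sections. -/
noncomputable def rep : ExtRep.Rep (J := X.smallEtaleTopology) U (freeSh U) :=
  ⟨homEquiv U, homEquiv_comp U⟩

theorem commutes_ext (hU : Qcqs U) (n : ℕ) {Λ : Type u} [SmallCategory Λ] [IsFiltered Λ] (D : Λ ⥤ EtCoh.Ab X)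
    (c : Cocone D) (hc : IsColimit c) : ExtRep.Commutes (freeSh U) n c := by
  haveI : AB5OfSize.{u, u} (EtCoh.Ab X) := AB5OfSize_shrink.{u, u, u + 1, u + 1} _
  haveI : HasExactColimitsOfShape Λ (EtCoh.Ab X) := inferInstance
  exact ExtRep.commutes good (rep U) hU n D c hc

theorem isAddTorsion_ext (hU : Qcqs U) (F : EtCoh.Ab X) (hF : EtCoh.IsTorsion F) (n : ℕ)
    (x : Ext (freeSh U) F n) : IsOfFinAddOrder x := by
  obtain ⟨hc⟩ := isColimit_torCocone F hF
  obtain ⟨j, η, rfl⟩ := (commutes_ext U hU n _ _ hc).1 x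
  refine isOfFinAddOrder_iff_nsmul_eq_zero.2 ⟨(AsSmall.down.obj j).factorial, Nat.factorial_pos _, ?_⟩
  refine (map_nsmul (ExtRep.Emap ((torCocone F).ι.app j) n) _ η).symm.trans ?_
  refine (congrArg _ ?_).trans (map_zero _)
  have h0 : (AsSmall.down.obj j).factorial • 𝟙 (kernel (facMap F (AsSmall.down.obj j))) = 0 := by
    rw [← cancel_mono (kernel.ι (facMap F (AsSmall.down.obj j))), Preadditive.nsmul_comp, Category.id_comp, zero_comp,
      ← kernel.condition (facMap F (AsSmall.down.obj j)), Preadditive.comp_nsmul, Category.comp_id]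
  let a : ((torDiag F).obj j ⟶ (torDiag F).obj j) →+ Ext (freeSh U) ((torDiag F).obj j) n :=
    { toFun := fun φ => ExtRep.Emap φ n η
      map_zero' := by simp
      map_add' := fun φ ψ => by simp [Ext.mk₀_add] }
  have h1 := map_nsmul a (AsSmall.down.obj j).factorial (𝟙 _)
  rw [show (AsSmall.down.obj j).factorial • 𝟙 ((torDiag F).obj j) = 0 from h0, map_zero] at h1
  exact (h1.trans (congrArg (_ • ·) (ExtRep.map_id_apply η))).symm

end Groth.L27.Colim
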