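import Groth.Agent.L27.Colim.Cohomology
import Groth.Agent.L27.EtSite.Common
import Mathlib.AlgebraicGeometry.Morphisms.QuasiSeparated
import Mathlib.AlgebraicGeometry.Morphisms.Etale
import Mathlib.AlgebraicGeometry.Morphisms.UniversallyOpen
import Groth.Prelude.Def_EtCore
import Mathlib.AlgebraicGeometry.Limits
import Mathlib.AlgebraicGeometry.PullbackCarrier
import Mathlib.CategoryTheory.Abelian.GrothendieckCategory.EnoughInjectives

/-! # The small etale site of a quasi-separated scheme is coherent -/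

universe u

open CategoryTheory CategoryTheory.Limits AlgebraicGeometry Opposite

set_option backward.isDefEq.respectTransparency.types false
set_option linter.style.haveILetI false

namespace Groth.L27.Colim

variable {X : Scheme.{u}}

/-- Quasi-compact quasi-separated objects. -/
def Qcqs (U : X.Etale) : Prop := CompactSpace U.left ∧ QuasiSeparatedSpace U.left

theorem isCov_iff {K L : X.Etale} (p : L ⟶ K) :
    IsCov X.smallEtaleTopology p ↔ Function.Surjective p.left := by
  rw [IsCov, EtSite.mem_topology_iff]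
  constructor
  · intro h x
    obtain ⟨V, g, v, ⟨W, a, b, hb, hab⟩, hv⟩ := h x
    cases hb
    exact ⟨a.left v, (Scheme.Hom.comp_apply _ _ _).symm.trans ((congrArg (fun m : V ⟶ K => m.left v) hab).trans hv)⟩
  · intro h x
    obtain ⟨v, hv⟩ := h x
    exact ⟨L, p, v, Sieve.le_generate _ _ _ (Presieve.singleton_self p), hv⟩

theorem exists_pb_qcqs {A B K : X.Etale} (f : A ⟶ K) (g : B ⟶ K) (hA : Qcqs A) (hB : Qcqs B) (hK : Qcqs K) :
    ∃ (P : X.Etale) (a : P ⟶ A) (b : P ⟶ B), Qcqs P ∧ a ≫ f = b ≫ g ∧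
      ∀ (V : X.Etale) (u : V ⟶ A) (v : V ⟶ B), u ≫ f = v ≫ g → ∃! l : V ⟶ P, l ≫ a = u ∧ l ≫ b = v := by
  obtain ⟨_, _⟩ := hA
  obtain ⟨_, _⟩ := hB
  obtain ⟨_, _⟩ := hK
  haveI : AlgebraicGeometry.Etale A.hom := A.prop
  haveI : AlgebraicGeometry.Etale g.left := EtSite.etale_left g
  haveI : QuasiCompact g.left := quasiCompact_of_compactSpace g.left
  haveI : QuasiSeparated g.left := QuasiSeparated.of_comp g.left K.left.toSpecΓ
  have hqc : QuasiCompact (pullback.fst f.left g.left) :=
    MorphismProperty.pullback_fst (P := @QuasiCompact) f.left g.left (quasiCompact_of_compactSpace g.left)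
  have hqs : QuasiSeparated (pullback.fst f.left g.left) :=
    MorphismProperty.pullback_fst (P := @QuasiSeparated) f.left g.left (QuasiSeparated.of_comp g.left K.left.toSpecΓ)
  refine ⟨Scheme.Etale.mk (pullback.fst f.left g.left ≫ A.hom),
    MorphismProperty.Over.homMk (pullback.fst f.left g.left) rfl,
    MorphismProperty.Over.homMk (pullback.snd f.left g.left) ?_, ⟨?_, ?_⟩,
    MorphismProperty.Over.Hom.ext pullback.condition, fun V u v e => ?_⟩
  · show pullback.snd f.left g.left ≫ B.hom = pullback.fst f.left g.left ≫ A.hom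
    rw [← MorphismProperty.Over.w f, ← MorphismProperty.Over.w g, pullback.condition_assoc]
  · exact @QuasiCompact.compactSpace_of_compactSpace _ _ (pullback.fst f.left g.left) hqc _
  · exact @quasiSeparatedSpace_of_quasiSeparated _ _ (pullback.fst f.left g.left) _ hqs
  · have e' : u.left ≫ f.left = v.left ≫ g.left := congrArg (fun m => m.left) e
    refine ⟨MorphismProperty.Over.homMk (pullback.lift u.left v.left e')
      ((Category.assoc _ _ _).symm.trans ((congrArg (· ≫ A.hom) (pullback.lift_fst _ _ _)).trans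
        (MorphismProperty.Over.w u))),
      ⟨MorphismProperty.Over.Hom.ext (pullback.lift_fst _ _ _), MorphismProperty.Over.Hom.ext (pullback.lift_snd _ _ _)⟩,
      fun l hl => MorphismProperty.Over.Hom.ext (pullback.hom_ext ?_ ?_)⟩
    · exact (congrArg (fun m : V ⟶ A => m.left) hl.1).trans (pullback.lift_fst u.left v.left e').symm
    · exact (congrArg (fun m : V ⟶ B => m.left) hl.2).trans (pullback.lift_snd u.left v.left e').symm

theorem exists_tup {K L : X.Etale} (p : L ⟶ K) (hK : Qcqs K) (hL : Qcqs L) (n : ℕ) :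
    ∃ (W : X.Etale) (t : Tup p n W), Qcqs W ∧ ∀ (V : X.Etale) (t' : Tup p n V), ∃! g : V ⟶ W, t.res g = t' := by
  induction n with
  | zero =>
    refine ⟨L, ⟨fun _ => 𝟙 L, fun _ _ => rfl⟩, hL, fun V t' => ⟨t'.1 0, ?_, fun g hg => ?_⟩⟩
    · refine Subtype.ext (funext fun k => ?_)
      rw [show k = 0 from Subsingleton.elim (α := Fin 1) k 0]
      exact Category.comp_id _
    · exact (Category.comp_id g).symm.trans (congrFun (congrArg Subtype.val hg) 0)
  | succ n ih =>
    obtain ⟨W, t, hW, ht⟩ := ih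
    obtain ⟨P, a, b, hP, hab, hlift⟩ := exists_pb_qcqs p (t.1 0 ≫ p) hL hW hK
    refine ⟨P, ⟨Fin.cons a (fun k => b ≫ t.1 k), fun k l => ?_⟩, hP, fun V t' => ?_⟩
    · have key : ∀ k : Fin (n + 1 + 1), (Fin.cons (α := fun _ => P ⟶ L) a (fun k => b ≫ t.1 k) k) ≫ p = a ≫ p :=
        fun k => by
          refine Fin.cases ?_ (fun i => ?_) k
          · rw [Fin.cons_zero]
          · rw [Fin.cons_succ, Category.assoc, t.2 i 0, hab]
      exact (key k).trans (key l).symm
    · obtain ⟨g, hg, hgu⟩ := ht V ⟨fun k => t'.1 k.succ, fun k l => t'.2 _ _⟩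
      have hgk : ∀ k, g ≫ t.1 k = t'.1 k.succ := fun k => congrFun (congrArg Subtype.val hg) k
      obtain ⟨l, ⟨hla, hlb⟩, hlu⟩ := hlift V (t'.1 0) g (by rw [← Category.assoc, hgk, t'.2 0 (Fin.succ 0)])
      refine ⟨l, Subtype.ext (funext fun k => ?_), fun l' hl' => ?_⟩
      · show l ≫ _ = _
        refine Fin.cases ?_ (fun i => ?_) k
        · exact hla
        · exact (Category.assoc l b (t.1 i)).symm.trans ((congrArg (· ≫ t.1 i) hlb).trans (hgk i))
      · have h : ∀ k, l' ≫ Fin.cons (α := fun _ => P ⟶ L) a (fun k => b ≫ t.1 k) k = t'.1 k :=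
          fun k => congrFun (congrArg Subtype.val hl') k
        refine hlu l' ⟨by simpa using h 0, hgu _ (Subtype.ext (funext fun k => ?_))⟩
        have := h k.succ
        rw [Fin.cons_succ, ← Category.assoc] at this
        exact this

theorem exists_affine_cover {K : X.Etale} (hK : Qcqs K) (R : Sieve K)
    (hR : R ∈ X.smallEtaleTopology K) :
    ∃ (L : X.Etale) (p : L ⟶ K), Qcqs L ∧ IsCov X.smallEtaleTopology p ∧
      ∃ (ι : Type u) (_ : Finite ι) (Y : ι → X.Etale) (q : ∀ i, Y i ⟶ L), (∀ i, Qcqs (Y i)) ∧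
        (∀ i, R.arrows (q i ≫ p)) ∧ ∀ F : Sheaf X.smallEtaleTopology AddCommGrpCat.{u + 1},
          Function.Bijective fun (x : F.obj.obj (op L)) (i : ι) => F.obj.map (q i).op x := by
  obtain ⟨_, _⟩ := hK
  choose V g v hg hv using (EtSite.mem_topology_iff R).1 hR
  have : ∀ x : K.left, ∃ O : (V x).left.Opens, IsAffineOpen O ∧ v x ∈ O := fun x => by
    obtain ⟨_, ⟨O, hO, rfl⟩, hx, -⟩ := (V x).left.isBasis_affineOpens.exists_subset_of_mem_open
      (Set.mem_univ (v x)) isOpen_univ
    exact ⟨O, hO, hx⟩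
  choose O hO hvO using this
  have hopen : ∀ x, IsOpen ((g x).left '' (O x : Set (V x).left)) := fun x =>
    (g x).left.isOpenMap _ (O x).2
  obtain ⟨σ, hσ⟩ := isCompact_univ.elim_finite_subcover _ hopen
    (fun x _ => Set.mem_iUnion.2 ⟨x, v x, hvO x, hv x⟩)
  let Z : σ → Scheme.{u} := fun i => (O i.1).toScheme
  haveI : ∀ i, IsAffine (Z i) := fun i => hO i.1
  let f : ∀ i, Z i ⟶ K.left := fun i => (O i.1).ι ≫ (g i.1).left
  haveI : AlgebraicGeometry.Etale K.hom := K.prop
  haveI : ∀ i, AlgebraicGeometry.Etale (f i) := fun i => inferInstance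
  haveI : AlgebraicGeometry.Etale (Sigma.desc f) :=
    IsZariskiLocalAtSource.sigmaDesc (P := EtCoh.etaleMP.{u}) fun i => inferInstance
  let L : X.Etale := Scheme.Etale.mk (Sigma.desc f ≫ K.hom)
  let p : L ⟶ K := MorphismProperty.Over.homMk (Sigma.desc f) rfl
  let Y : σ → X.Etale := fun i =>
    haveI : AlgebraicGeometry.Etale (Sigma.ι Z i) := inferInstance
    Scheme.Etale.mk (Sigma.ι Z i ≫ Sigma.desc f ≫ K.hom)
  let q : ∀ i, Y i ⟶ L := fun i => MorphismProperty.Over.homMk (Sigma.ι Z i) rfl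
  refine ⟨L, p, ⟨inferInstanceAs (CompactSpace ↥(∐ Z)), inferInstanceAs (QuasiSeparatedSpace ↥(∐ Z))⟩,
    (isCov_iff p).2 fun x => ?_, σ, inferInstance, Y, q,
    fun i => ⟨inferInstanceAs (CompactSpace (Z i)), inferInstanceAs (QuasiSeparatedSpace (Z i))⟩, fun i => ?_, fun F => ?_⟩
  · obtain ⟨i, hi, z, hz, rfl⟩ := Set.mem_iUnion₂.1 (hσ (Set.mem_univ x))
    refine ⟨Sigma.ι Z ⟨i, hi⟩ (⟨z, hz⟩ : O i), ?_⟩
    refine (Scheme.Hom.comp_apply (Sigma.ι Z ⟨i, hi⟩) (Sigma.desc f) _).symm.trans ?_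
    rw [Sigma.ι_desc]
    exact Scheme.Hom.comp_apply _ _ _
  · have hV : (Sigma.ι Z i ≫ Sigma.desc f ≫ K.hom) = (O i.1).ι ≫ (V i.1).hom := by
      rw [← Category.assoc, Sigma.ι_desc]
      exact (Category.assoc _ _ _).trans (congrArg (_ ≫ ·) (MorphismProperty.Over.w (g i.1)))
    let m : Y i ⟶ V i.1 := MorphismProperty.Over.homMk (O i.1).ι hV.symm
    rw [show q i ≫ p = m ≫ g i.1 from MorphismProperty.Over.Hom.ext (Sigma.ι_desc f i)]
    exact R.downward_closed (hg i.1) m
  · let P : Presieve L := Presieve.ofArrows Y q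
    have hP : Sieve.generate P ∈ X.smallEtaleTopology L := (EtSite.mem_topology_iff _).2 fun x => by
      obtain ⟨i, z, hz⟩ : ∃ i z, Sigma.ι Z i z = x := (sigmaOpenCover Z).exists_eq x
      exact ⟨Y i, q i, z, Sieve.le_generate P _ _ (Presieve.ofArrows.mk i), hz⟩
    have hsheaf := ((isSheaf_iff_isSheaf_of_type _ _).1
      ((Presheaf.isSheaf_iff_isSheaf_forget X.smallEtaleTopology F.obj (forget AddCommGrpCat.{u + 1})).1 F.property))
      _ hP
    rw [← Presieve.isSheafFor_iff_generate, Presieve.isSheafFor_arrows_iff] at hsheaf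
    refine ⟨fun x y h => ?_, fun z => ?_⟩
    · refine EtSite.ext_of_locally F fun l => ?_
      obtain ⟨i, w, hw⟩ : ∃ i w, Sigma.ι Z i w = l := (sigmaOpenCover Z).exists_eq l
      exact ⟨Y i, q i, w, hw, congrFun h i⟩
    · obtain ⟨x, hx, -⟩ := hsheaf z fun i j Q a b e => by
        by_cases hij : i = j
        · subst hij
          rw [show a = b from MorphismProperty.Over.Hom.ext
            ((cancel_mono (Sigma.ι Z i)).1 (congrArg (fun m : Q ⟶ L => m.left) e))]
        · refine EtSite.ext_of_locally F fun w => ?_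
          haveI := isEmpty_of_commSq_sigmaι_of_ne (g := Z) (⟨congrArg (fun m : Q ⟶ L => m.left) e⟩ :
            CommSq a.left b.left (Sigma.ι Z i) (Sigma.ι Z j)) hij
          exact isEmptyElim w
      exact ⟨x, funext hx⟩

theorem good : Good X.smallEtaleTopology (Qcqs (X := X)) where
  tup p hK hL _ n := exists_tup p hK hL n
  refine_cover _ hK R hR := exists_affine_cover hK R hR

/-- Cohomology of a qcqs scheme commutes with filtered colimits. -/
theorem preservesColimitsOfShape_HF (X : Scheme.{u}) [CompactSpace X] [QuasiSeparatedSpace X] (n : ℕ)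
    (Λ : Type u) [SmallCategory Λ] [IsFiltered Λ] : PreservesColimitsOfShape Λ (EtCoh.HF X n) := by
  haveI : AB5OfSize.{u, u} (EtCoh.Ab X) := AB5OfSize_shrink.{u, u, u + 1, u + 1} _
  haveI : HasExactColimitsOfShape Λ (EtCoh.Ab X) := inferInstance
  exact preservesColimitsOfShape_functorH good (EtCore.topIsTerminal X) (hT₀ := ⟨‹_›, ‹_›⟩) n
-- (CompactSpace X), inferInstanceAs (QuasiSeparatedSpace X)⟩ n

end Groth.L27.Colim
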