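import Groth.Agent.L27.Colim.Sections
import Mathlib.CategoryTheory.Sites.SheafCohomology.Basic
import Mathlib.Algebra.Homology.DerivedCategory.Ext.ExtClass
import Mathlib.Algebra.Homology.DerivedCategory.Ext.ExactSequences
import Mathlib.CategoryTheory.Abelian.GrothendieckAxioms.Basic
import Mathlib.CategoryTheory.Abelian.FunctorCategory

/-! # Ext out of an object representing sections on a quasi-compact object commutes with filtered colimits -/

universe u

open CategoryTheory CategoryTheory.Limits Opposite CategoryTheory.Abelian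

set_option linter.style.haveILetI false
set_option linter.unusedSectionVars false

namespace Groth.L27.Colim.ExtRep

variable {C : Type (u + 1)} [Category.{u} C] {J : GrothendieckTopology C}

/-- `Z` represents the sections on `T`. -/
structure Rep (T : C) (Z : Sheaf J AddCommGrpCat.{u + 1}) where
  /-- The bijection. -/
  equiv : ∀ F : Sheaf J AddCommGrpCat.{u + 1}, (Z ⟶ F) ≃+ F.obj.obj (op T)
  nat : ∀ {F G : Sheaf J AddCommGrpCat.{u + 1}} (f : F ⟶ G) (φ : Z ⟶ F),
    equiv G (φ ≫ f) = f.hom.app (op T) (equiv F φ)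

variable [HasSheafify J AddCommGrpCat.{u + 1}] [J.HasSheafCompose (forget AddCommGrpCat.{u + 1})]
  [J.WEqualsLocallyBijective AddCommGrpCat.{u + 1}]
  [HasExt.{u + 1} (Sheaf J AddCommGrpCat.{u + 1})] [EnoughInjectives (Sheaf J AddCommGrpCat.{u + 1})]
  {S : C → Prop} (hS : Good J S) {T : C} {Z : Sheaf J AddCommGrpCat.{u + 1}}
  (hT : Rep T Z) (hT₀ : S T)

/-- The map induced on `Ext`. -/
noncomputable abbrev Emap {F G : Sheaf J AddCommGrpCat.{u + 1}} (f : F ⟶ G) (n : ℕ) : Ext Z F n →+ Ext Z G n :=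
  (Ext.mk₀ f).postcomp Z (add_zero n)

theorem Emap_apply {F G : Sheaf J AddCommGrpCat.{u + 1}} (f : F ⟶ G) {n : ℕ} (x : Ext Z F n) :
    Emap f n x = x.comp (Ext.mk₀ f) (add_zero n) := rfl

theorem map_id_apply {F : Sheaf J AddCommGrpCat.{u + 1}} {n : ℕ} (x : Ext Z F n) : Emap (𝟙 F) n x = x := by
  simp [Emap_apply]

theorem map_comp_apply {F G H : Sheaf J AddCommGrpCat.{u + 1}} (f : F ⟶ G) {n : ℕ} (g : G ⟶ H) (x : Ext Z F n) :
    Emap (f ≫ g) n x = Emap g n (Emap f n x) := by
  simp [Emap_apply]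

/-- Degree zero. -/
noncomputable def eqv (hT : Rep T Z) (F : Sheaf J AddCommGrpCat.{u + 1}) : Ext Z F 0 ≃+ F.obj.obj (op T) :=
  Ext.addEquiv₀.trans (hT.equiv F)

theorem addEquiv₀_mk₀ {F G : Sheaf J AddCommGrpCat.{u + 1}} (φ : F ⟶ G) : Ext.addEquiv₀ (Ext.mk₀ φ) = φ :=
  (Ext.mk₀_bijective F G).1 (Ext.mk₀_homEquiv₀_apply _)

theorem equiv_naturality (hT : Rep T Z) {F G : Sheaf J AddCommGrpCat.{u + 1}} (f : F ⟶ G) (x : Ext Z F 0) :
    f.hom.app (op T) (eqv hT F x) = eqv hT G (Emap f 0 x) := by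
  obtain ⟨φ, rfl⟩ := (Ext.mk₀_bijective Z F).2 x
  show f.hom.app (op T) (hT.equiv F (Ext.addEquiv₀ (Ext.mk₀ φ))) = hT.equiv G (Ext.addEquiv₀ (Emap f 0 (Ext.mk₀ φ)))
  rw [Emap_apply, Ext.mk₀_comp_mk₀, addEquiv₀_mk₀, addEquiv₀_mk₀, hT.nat]

theorem symm_naturality (hT : Rep T Z) {F G : Sheaf J AddCommGrpCat.{u + 1}} (f : F ⟶ G) (x : F.obj.obj (op T)) :
    Emap f 0 ((eqv hT F).symm x) = (eqv hT G).symm (f.hom.app (op T) x) := by
  apply (eqv hT G).injective
  rw [← equiv_naturality, AddEquiv.apply_symm_apply, AddEquiv.apply_symm_apply]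

include hS hT hT₀ in
theorem exists_map_H0 {E : ShortComplex (Sheaf J AddCommGrpCat.{u + 1})} (hE : E.ShortExact)
    (hA : Acyc S E.X₁) (x : Ext Z E.X₃ 0) : ∃ y, Emap E.g 0 y = x := by
  obtain ⟨b, hb⟩ := surjective_of_acyc hS hE hA hT₀ (eqv hT E.X₃ x)
  exact ⟨(eqv hT E.X₂).symm b, by rw [symm_naturality, hb, AddEquiv.symm_apply_apply]⟩

include hS hT hT₀ in
/-- Cech exact sheaves are acyclic. -/
theorem subsingleton_H_of_acyc (n : ℕ) (A : Sheaf J AddCommGrpCat.{u + 1}) (hA : Acyc S A) :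
    Subsingleton (Ext Z A (n + 1)) := by
  induction n generalizing A with
  | zero =>
    let E := ShortComplex.mk (Injective.ι A) (cokernel.π _) (cokernel.condition _)
    have hE : E.ShortExact :=
      { exact := ShortComplex.exact_of_g_is_cokernel _ (cokernelIsCokernel _) }
    refine subsingleton_of_forall_eq 0 fun x => ?_
    obtain ⟨y, hy⟩ := Ext.covariant_sequence_exact₁ _ hE x (Ext.eq_zero_of_injective _) (zero_add 1)
    obtain ⟨z, hz⟩ := exists_map_H0 hS hT hT₀ hE hA y
    rw [← hy, ← hz, Emap_apply, Ext.comp_assoc_of_second_deg_zero, ShortComplex.ShortExact.comp_extClass,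
      Ext.comp_zero]
  | succ n ih =>
    let E := ShortComplex.mk (Injective.ι A) (cokernel.π _) (cokernel.condition _)
    have hE : E.ShortExact :=
      { exact := ShortComplex.exact_of_g_is_cokernel _ (cokernelIsCokernel _) }
    haveI := ih _ (acyc_X₃ hS hE hA (acyc_of_injective (Injective.under A)))
    refine subsingleton_of_forall_eq 0 fun x => ?_
    obtain ⟨y, hy⟩ := Ext.covariant_sequence_exact₁ _ hE x (Ext.eq_zero_of_injective _) rfl
    rw [← hy, Subsingleton.elim y 0, Ext.zero_comp]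

variable {Λ : Type u} [SmallCategory Λ] [IsFiltered Λ]

variable (Z) in
/-- Cohomology in degree `n` commutes with the colimit. -/
def Commutes (n : ℕ) {D : Λ ⥤ Sheaf J AddCommGrpCat.{u + 1}} (c : Cocone D) : Prop :=
  (∀ ξ : Ext Z c.pt n, ∃ (j : Λ) (η : Ext Z (D.obj j) n), Emap (c.ι.app j) n η = ξ) ∧
    ∀ (j : Λ) (η : Ext Z (D.obj j) n), Emap (c.ι.app j) n η = 0 →
      ∃ (k : Λ) (f : j ⟶ k), Emap (D.map f) n η = 0

include hS hT hT₀ in
theorem commutes_zero {D : Λ ⥤ Sheaf J AddCommGrpCat.{u + 1}} {c : Cocone D} (hc : IsColimit c) :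
    Commutes Z 0 c := by
  refine ⟨fun ξ => ?_, fun j η h => ?_⟩
  · obtain ⟨j, y, hy⟩ := exists_rep hS hc hT₀ (eqv hT c.pt ξ)
    exact ⟨j, (eqv hT _).symm y, by
      rw [symm_naturality, hy]; exact AddEquiv.symm_apply_apply _ _⟩
  · obtain ⟨k, f, hf⟩ := exists_map_eq_zero hS hc hT₀ j (eqv hT _ η)
      ((equiv_naturality hT (c.ι.app j) η).trans ((congrArg _ h).trans (map_zero _)))
    exact ⟨k, f, (eqv hT _).injective
      ((equiv_naturality hT (D.map f) η).symm.trans (hf.trans (map_zero _).symm))⟩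

theorem Commutes.of_isColimit {n : ℕ} {D : Λ ⥤ Sheaf J AddCommGrpCat.{u + 1}} {c c' : Cocone D}
    (hc : IsColimit c) (hc' : IsColimit c') (h : Commutes Z n c) : Commutes Z n c' := by
  let e := hc.coconePointUniqueUpToIso hc'
  have he : ∀ j, c.ι.app j ≫ e.hom = c'.ι.app j := fun j => hc.comp_coconePointUniqueUpToIso_hom hc' j
  refine ⟨fun ξ => ?_, fun j η hη => h.2 j η ?_⟩
  · obtain ⟨j, η, hη⟩ := h.1 (Emap e.inv n ξ)
    exact ⟨j, η, by rw [← he, map_comp_apply, hη, ← map_comp_apply, e.inv_hom_id,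
      map_id_apply]⟩
  · rw [← he, map_comp_apply] at hη
    have := congrArg (Emap e.inv n) hη
    rw [← map_comp_apply, e.hom_inv_id] at this
    exact (map_id_apply _).symm.trans (this.trans (map_zero _))

variable [HasExactColimitsOfShape Λ (Sheaf J AddCommGrpCat.{u + 1})]

omit [IsFiltered Λ] in
/-- A diagram embeds in a pointwise injective one. -/
theorem exists_embedding (D : Λ ⥤ Sheaf J AddCommGrpCat.{u + 1}) :
    ∃ (I : Λ ⥤ Sheaf J AddCommGrpCat.{u + 1}) (η : D ⟶ I), Mono η ∧ ∀ k, Injective (I.obj k) := by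
  let I : Λ ⥤ Sheaf J AddCommGrpCat.{u + 1} :=
    { obj := fun k => ∏ᶜ fun p : Σ j : Λ, (k ⟶ j) => Injective.under (D.obj p.1)
      map := fun {k k'} f => Pi.lift fun p => Pi.π (fun p : Σ j : Λ, (k ⟶ j) => Injective.under (D.obj p.1))
        ⟨p.1, f ≫ p.2⟩
      map_id := fun k => Pi.hom_ext _ _ fun ⟨j, g⟩ => by
        rw [Pi.lift_π, Category.id_comp]
        dsimp only
        rw [Category.id_comp]
      map_comp := fun {a b d} f g => Pi.hom_ext _ _ fun ⟨j, h⟩ => by
        simp
        congr 2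
        exact Category.assoc _ _ _ }
  let η : D ⟶ I :=
    { app := fun k => Pi.lift fun p => D.map p.2 ≫ Injective.ι (D.obj p.1)
      naturality := fun k k' f => Pi.hom_ext _ _ fun ⟨j, h⟩ => by
        simp only [I, Category.assoc, Pi.lift_π, D.map_comp] }
  refine ⟨I, η, ?_, fun k => inferInstanceAs (Injective (∏ᶜ fun p : Σ j : Λ, (k ⟶ j) => Injective.under (D.obj p.1)))⟩
  haveI : ∀ k, Mono (η.app k) := fun k => by
    have e : η.app k ≫ Pi.π (fun p : Σ j : Λ, (k ⟶ j) => Injective.under (D.obj p.1)) ⟨k, 𝟙 k⟩ =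
        Injective.ι (D.obj k) := by simp [η, I]
    exact mono_of_mono_fac e
  exact NatTrans.mono_of_mono_app η

include hS hT hT₀ in
theorem commutes (n : ℕ) (D : Λ ⥤ Sheaf J AddCommGrpCat.{u + 1}) (c : Cocone D) (hc : IsColimit c) :
    Commutes Z n c := by
  induction n generalizing D with
  | zero => exact commutes_zero hS hT hT₀ hc
  | succ n ih =>
    refine Commutes.of_isColimit (colimit.isColimit D) hc ?_
    clear hc c
    obtain ⟨I, η, hη, hI⟩ := exists_embedding D
    let Q := cokernel η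
    let π : I ⟶ Q := cokernel.π η
    let E := ShortComplex.mk η π (cokernel.condition η)
    have hE : E.ShortExact :=
      { exact := ShortComplex.exact_of_g_is_cokernel _ (cokernelIsCokernel _) }
    haveI : PreservesFiniteLimits (colim (J := Λ) (C := Sheaf J AddCommGrpCat.{u + 1})) :=
      HasExactColimitsOfShape.preservesFiniteLimits
    have hEc : (E.map colim).ShortExact := hE.map_of_exact _
    have hEk : ∀ k, (E.map ((evaluation Λ _).obj k)).ShortExact := fun k => hE.map_of_exact _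
    let δ : ∀ k, Ext Z (Q.obj k) n → Ext Z (D.obj k) (n + 1) := fun k y => y.comp (hEk k).extClass rfl
    let δc : Ext Z (colimit Q) n → Ext Z (colimit D) (n + 1) := fun y => y.comp hEc.extClass rfl
    have hnat : ∀ k (y : Ext Z (Q.obj k) n),
        Emap (colimit.ι D k) (n + 1) (δ k y) = δc (Emap (colimit.ι Q k) n y) := fun k y => by
      let φ : E.map ((evaluation Λ _).obj k) ⟶ E.map colim :=
        { τ₁ := colimit.ι D k
          τ₂ := colimit.ι I k
          τ₃ := colimit.ι Q k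
          comm₁₂ := (colimit.ι_map η k)
          comm₂₃ := (colimit.ι_map π k) }
      show (y.comp (hEk k).extClass rfl).comp (Ext.mk₀ φ.τ₁) (add_zero (n + 1)) =
        (y.comp (Ext.mk₀ φ.τ₃) (add_zero n)).comp hEc.extClass rfl
      exact (Ext.comp_assoc_of_third_deg_zero _ _ _ _).trans ((congrArg (fun z => y.comp z rfl)
        (ShortComplex.ShortExact.extClass_naturality (hEk k) hEc φ)).trans
          (Ext.comp_assoc_of_second_deg_zero _ _ _ _).symm)
    have htrans : ∀ {k m} (f : k ⟶ m) (y : Ext Z (Q.obj k) n),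
        Emap (D.map f) (n + 1) (δ k y) = δ m (Emap (Q.map f) n y) := fun {k m} f y => by
      let φ : E.map ((evaluation Λ _).obj k) ⟶ E.map ((evaluation Λ _).obj m) :=
        { τ₁ := D.map f
          τ₂ := I.map f
          τ₃ := Q.map f
          comm₁₂ := η.naturality f
          comm₂₃ := π.naturality f }
      show (y.comp (hEk k).extClass rfl).comp (Ext.mk₀ φ.τ₁) (add_zero (n + 1)) =
        (y.comp (Ext.mk₀ φ.τ₃) (add_zero n)).comp (hEk m).extClass rfl
      exact (Ext.comp_assoc_of_third_deg_zero _ _ _ _).trans ((congrArg (fun z => y.comp z rfl)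
        (ShortComplex.ShortExact.extClass_naturality (hEk k) (hEk m) φ)).trans
          (Ext.comp_assoc_of_second_deg_zero _ _ _ _).symm)
    haveI := subsingleton_H_of_acyc hS hT hT₀ n (colimit I)
      (acyc_colimit hS (colimit.isColimit I) fun k => haveI := hI k; acyc_of_injective _)
    obtain ⟨hQ₁, hQ₂⟩ := ih Q (colimit.cocone _) (colimit.isColimit _)
    obtain ⟨hI₁, -⟩ := ih I (colimit.cocone _) (colimit.isColimit _)
    refine ⟨fun ξ => ?_, fun j ξ hξ => ?_⟩
    · obtain ⟨y, rfl⟩ := Ext.covariant_sequence_exact₁ _ hEc ξ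
        (Subsingleton.elim (α := Ext Z (colimit I) (n + 1)) _ _) rfl
      obtain ⟨j, y', rfl⟩ := hQ₁ y
      exact ⟨j, δ j y', hnat j y'⟩
    · haveI : Injective (E.map ((evaluation Λ _).obj j)).X₂ := hI j
      obtain ⟨y, rfl⟩ : ∃ y : Ext Z (Q.obj j) n, δ j y = ξ :=
        Ext.covariant_sequence_exact₁ _ (hEk j) ξ (Ext.eq_zero_of_injective _) rfl
      obtain ⟨θ, hθ⟩ := Ext.covariant_sequence_exact₃ _ hEc (Emap (colimit.ι Q j) n y) rfl
        ((hnat j y).symm.trans hξ)
      obtain ⟨k, θ', hθ'⟩ := hI₁ θ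
      let m := IsFiltered.max j k
      let a := IsFiltered.leftToMax j k
      let b := IsFiltered.rightToMax j k
      let z : Ext Z (Q.obj m) n := Emap (Q.map a) n y - Emap (π.app k ≫ Q.map b) n θ'
      have hz : Emap (colimit.ι Q m) n z = 0 := by
        rw [map_sub, ← map_comp_apply, ← map_comp_apply, Category.assoc, colimit.w, colimit.w,
          ← colimit.ι_map π k, map_comp_apply, sub_eq_zero]
        exact hθ.symm.trans (congrArg (Emap (colim.map π) n) hθ'.symm)
      obtain ⟨r, g, hg⟩ := hQ₂ m z hz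
      refine ⟨r, a ≫ g, ?_⟩
      have e : Emap (Q.map (a ≫ g)) n y = Emap (π.app r) n (Emap (I.map (b ≫ g)) n θ') := by
        rw [← map_comp_apply, π.naturality, ← sub_eq_zero]
        refine Eq.trans ?_ hg
        show _ = Emap (Q.map g) n (Emap (Q.map a) n y - Emap (π.app k ≫ Q.map b) n θ')
        rw [map_sub, ← map_comp_apply, ← map_comp_apply, Category.assoc, ← Q.map_comp, ← Q.map_comp]
      refine (htrans (a ≫ g) y).trans ((congrArg (δ r) e).trans ?_)
      exact (Ext.comp_assoc_of_second_deg_zero _ _ _ _).trans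
        ((congrArg (fun z => (Emap (I.map (b ≫ g)) n θ').comp z rfl) (hEk r).comp_extClass).trans
          (Ext.comp_zero _ _ _ _ _))

end Groth.L27.Colim.ExtRep
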