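import Groth.Agent.L27.Colim.Tuples
import Mathlib.Algebra.Category.Grp.Adjunctions
import Mathlib.Algebra.Homology.ShortComplex.Ab
import Mathlib.CategoryTheory.Abelian.FunctorCategory
import Mathlib.CategoryTheory.Abelian.Injective.Basic

/-! # The Cech complex of an injective presheaf is exact -/

universe u

open CategoryTheory CategoryTheory.Limits Opposite

set_option linter.style.haveILetI false

namespace Groth.L27.Colim

variable {C : Type (u + 1)} [Category.{u} C] {K L : C} (p : L ⟶ K)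

/-- Tuples as a presheaf. -/
def T (n : ℕ) : Cᵒᵖ ⥤ Type (u + 1) where
  obj V := ULift.{u + 1} (Tup p n V.unop)
  map {V W} g := TypeCat.ofHom fun (t : ULift.{u + 1} (Tup p n V.unop)) => (ULift.up (t.down.res g.unop) : ULift.{u + 1} (Tup p n W.unop))
  map_id V := by
    refine ConcreteCategory.hom_ext _ _ fun t => ?_
    exact congrArg ULift.up (Subtype.ext (funext fun k => Category.id_comp (t.down.1 k)))
  map_comp {U V W} g h := by
    refine ConcreteCategory.hom_ext _ _ fun t => ?_
    exact congrArg ULift.up (Tup.res_res h.unop g.unop t.down).symm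

/-- Faces. -/
def Tface {n : ℕ} (j : Fin (n + 2)) : T p (n + 1) ⟶ T p n where
  app V := TypeCat.ofHom fun (t : ULift.{u + 1} (Tup p (n + 1) V.unop)) =>
    (ULift.up (t.down.face j) : ULift.{u + 1} (Tup p n V.unop))

/-- The free presheaf. -/
noncomputable abbrev Fr (n : ℕ) : Cᵒᵖ ⥤ AddCommGrpCat.{u + 1} := T p n ⋙ AddCommGrpCat.free.{u + 1}

/-- Differential. -/
noncomputable def Frd (n : ℕ) : Fr p (n + 1) ⟶ Fr p n :=
  ∑ j : Fin (n + 2), (-1 : ℤ) ^ (j : ℕ) • Functor.whiskerRight (Tface p j) AddCommGrpCat.free.{u + 1}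

theorem sum_hom_apply {A B : AddCommGrpCat.{u + 1}} {ι : Type} (s : Finset ι) (c : ι → ℤ) (f : ι → (A ⟶ B))
    (x : A) : (∑ i ∈ s, c i • f i) x = ∑ i ∈ s, c i • f i x := by
  classical
  induction s using Finset.induction_on with
  | empty => simp
  | insert a s ha ih => simp [Finset.sum_insert ha, ih]

theorem Frd_app_of {n : ℕ} (V : Cᵒᵖ) (s : (T p (n + 1)).obj V) :
    (Frd p n).app V (FreeAbelianGroup.of s) =
      ∑ j : Fin (n + 2), (-1 : ℤ) ^ (j : ℕ) • (FreeAbelianGroup.of ((Tface p j).app V s) :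
        FreeAbelianGroup ((T p n).obj V)) := by
  simp only [Frd, NatTrans.app_sum, NatTrans.app_zsmul]
  refine (sum_hom_apply _ _ _ _).trans ?_
  exact Finset.sum_congr rfl fun j _ => congrArg _ (FreeAbelianGroup.map_of_apply _)

variable {p}

/-- A chosen lift of a morphism to `K`. -/
noncomputable def sec {V : C} (f : V ⟶ K) (h : ∃ e : V ⟶ L, e ≫ p = f) : V ⟶ L := Classical.choose h

theorem sec_spec {V : C} (f : V ⟶ K) (h : ∃ e : V ⟶ L, e ≫ p = f) : sec f h ≫ p = f :=
  Classical.choose_spec h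

theorem sec_congr {V : C} {f f' : V ⟶ K} (hf : f = f') (h : ∃ e : V ⟶ L, e ≫ p = f) :
    sec f h = sec f' (hf ▸ h) := by subst hf; rfl

/-- The contraction on tuples. -/
noncomputable def hTup {n : ℕ} {V : C} (s : Tup p n V) : Tup p (n + 1) V :=
  ⟨Fin.cons (sec (s.1 0 ≫ p) ⟨s.1 0, rfl⟩) s.1, fun k l => by
    have key : ∀ k : Fin (n + 1 + 1), (Fin.cons (α := fun _ => V ⟶ L)
        (sec (s.1 0 ≫ p) ⟨s.1 0, rfl⟩) s.1 k) ≫ p = s.1 0 ≫ p := fun k => by
      refine Fin.cases ?_ (fun i => ?_) k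
      · rw [Fin.cons_zero]; exact sec_spec _ _
      · rw [Fin.cons_succ]; exact s.2 i 0
    exact (key k).trans (key l).symm⟩

theorem face_hTup_zero {n : ℕ} {V : C} (s : Tup p n V) : (hTup s).face 0 = s :=
  Subtype.ext (funext fun k => by simp [Tup.face, Tup.reindex, hTup])

theorem face_hTup_succ {n : ℕ} {V : C} (s : Tup p (n + 1) V) (j : Fin (n + 2)) :
    (hTup s).face j.succ = hTup (s.face j) :=
  Subtype.ext (funext fun k => by
    refine Fin.cases ?_ (fun i => ?_) k
    · simpa [Tup.face, Tup.reindex, hTup] using sec_congr (s.2 0 (j.succAbove 0)) ⟨s.1 0, rfl⟩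
    · simp [Tup.face, Tup.reindex, hTup]; rfl)

/-- The contraction. -/
noncomputable def hh {n : ℕ} {V : Cᵒᵖ} (s : (T p n).obj V) : (T p (n + 1)).obj V := ULift.up (hTup s.down)

theorem Tface_hh_zero {n : ℕ} {V : Cᵒᵖ} (s : (T p n).obj V) : (Tface p 0).app V (hh s) = s :=
  congrArg ULift.up (face_hTup_zero s.down)

theorem Tface_hh_succ {n : ℕ} {V : Cᵒᵖ} (s : (T p (n + 1)).obj V) (j : Fin (n + 2)) :
    (Tface p j.succ).app V (hh s) = hh ((Tface p j).app V s) :=
  congrArg ULift.up (face_hTup_succ s.down j)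

theorem exists_factor {n : ℕ} (P : Cᵒᵖ ⥤ AddCommGrpCat.{u + 1}) [Injective P]
    (φ : Fr p (n + 1) ⟶ P) (hφ : Frd p (n + 1) ≫ φ = 0) : ∃ ψ, Frd p n ≫ ψ = φ := by
  have hker : kernel.ι (Frd p n) ≫ φ = 0 := by
    refine NatTrans.ext (funext fun V => AddCommGrpCat.hom_ext (AddMonoidHom.ext fun z => ?_))
    have hx : (Frd p n).app V ((kernel.ι (Frd p n)).app V z) = 0 :=
      congr($(congr_app (kernel.condition (Frd p n)) V) z)
    change φ.app V ((kernel.ι (Frd p n)).app V z) = 0
    generalize (kernel.ι (Frd p n)).app V z = x at hx ⊢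
    let H : ∀ m, FreeAbelianGroup ((T p m).obj V) →+ FreeAbelianGroup ((T p (m + 1)).obj V) :=
      fun m => FreeAbelianGroup.map hh
    let dd : ∀ m, FreeAbelianGroup ((T p (m + 1)).obj V) →+ FreeAbelianGroup ((T p m).obj V) :=
      fun m => ((Frd p m).app V).hom
    have hdd : ∀ m s, dd m (FreeAbelianGroup.of s) = ∑ j : Fin (m + 2), (-1 : ℤ) ^ (j : ℕ) •
        (FreeAbelianGroup.of ((Tface p j).app V s) : FreeAbelianGroup ((T p m).obj V)) :=
      fun m s => Frd_app_of p V s
    have key : ∀ y : FreeAbelianGroup ((T p (n + 1)).obj V), dd (n + 1) (H (n + 1) y) + H n (dd n y) = y := by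
      suffices hk : (dd (n + 1)).comp (H (n + 1)) + (H n).comp (dd n) =
          AddMonoidHom.id _ from fun y => DFunLike.congr_fun hk y
      refine FreeAbelianGroup.lift_ext _ _ fun s => ?_
      simp only [AddMonoidHom.add_apply, AddMonoidHom.comp_apply, AddMonoidHom.id_apply, H,
        FreeAbelianGroup.map_of_apply]
      rw [hdd, hdd]
      rw [map_sum, Fin.sum_univ_succ]
      simp only [map_zsmul, FreeAbelianGroup.map_of_apply, Tface_hh_zero, Tface_hh_succ, Fin.val_succ,
        Fin.val_zero, pow_zero, one_smul, pow_succ, mul_neg, mul_one, neg_smul, Finset.sum_neg_distrib]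
      abel
    have hx' := key x
    rw [show dd n x = 0 from hx, map_zero, add_zero] at hx'
    rw [← hx']
    exact congr($(congr_app hφ V) (H (n + 1) x))
  have hex : (ShortComplex.mk _ _ (kernel.condition (Frd p n))).Exact :=
    ShortComplex.exact_of_f_is_kernel _ (kernelIsKernel _)
  exact ⟨hex.descToInjective φ hker, hex.comp_descToInjective φ hker⟩

variable {P : Cᵒᵖ ⥤ AddCommGrpCat.{u + 1}}

theorem Frd_comp (n : ℕ) (φ : Fr p n ⟶ P) (V : Cᵒᵖ) (s : (T p (n + 1)).obj V) :
    (Frd p n ≫ φ).app V (FreeAbelianGroup.of s) =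
      ∑ j : Fin (n + 2), (-1 : ℤ) ^ (j : ℕ) • φ.app V (FreeAbelianGroup.of ((Tface p j).app V s)) := by
  exact (congrArg (φ.app V) (Frd_app_of p V s)).trans ((map_sum (φ.app V).hom _ _).trans
    (Finset.sum_congr rfl fun j _ => map_zsmul (φ.app V).hom _ _))

/-- A cochain as a map out of the free presheaf. -/
noncomputable def toHom {n : ℕ} (x : Fam p P n) (hx : IsNat x) : Fr p n ⟶ P where
  app V := AddCommGrpCat.ofHom (FreeAbelianGroup.lift fun s => x V.unop s.down)
  naturality V W f := by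
    refine AddCommGrpCat.hom_ext (FreeAbelianGroup.lift_ext _ _ fun s => ?_)
    change FreeAbelianGroup.lift (fun s : (T p n).obj W => x W.unop s.down)
      (FreeAbelianGroup.map ((T p n).map f) (FreeAbelianGroup.of s)) =
      P.map f (FreeAbelianGroup.lift (fun s : (T p n).obj V => x V.unop s.down) (FreeAbelianGroup.of s))
    rw [FreeAbelianGroup.map_of_apply, FreeAbelianGroup.lift_apply_of, FreeAbelianGroup.lift_apply_of]
    exact hx f.unop s.down

theorem toHom_of {n : ℕ} (x : Fam p P n) (hx : IsNat x) {V : Cᵒᵖ} (s : (T p n).obj V) :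
    (toHom x hx).app V (FreeAbelianGroup.of s) = x V.unop s.down := FreeAbelianGroup.lift_apply_of _ _

theorem cechExact_of_injective [Injective P] : CechExact p P := fun n x hx hdx => by
  obtain ⟨ψ, hψ⟩ := exists_factor P (toHom x hx) (by
    refine NatTrans.ext (funext fun V => AddCommGrpCat.hom_ext (FreeAbelianGroup.lift_ext _ _ fun s => ?_))
    refine (Frd_comp (n + 1) (toHom x hx) V s).trans ?_
    simp only [toHom_of]
    exact congrFun (congrFun hdx V.unop) s.down)
  refine ⟨fun V t => ψ.app (op V) (FreeAbelianGroup.of (ULift.up t : (T p n).obj (op V))),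
    fun {V W} g t => ?_, ?_⟩
  · refine Eq.trans ?_ congr($(ψ.naturality g.op) (FreeAbelianGroup.of (ULift.up t : (T p n).obj (op V))))
    exact congrArg (ψ.app (op W)) (FreeAbelianGroup.map_of_apply (f := ⇑((T p n).map g.op))
      (ULift.up t : (T p n).obj (op V))).symm
  · funext V t
    exact (Frd_comp n ψ (op V) ⟨t⟩).symm.trans
      (congr($(congr_app hψ (op V)) (FreeAbelianGroup.of (ULift.up t : (T p (n + 1)).obj (op V)))).trans
        (toHom_of x hx _))

end Groth.L27.Colim
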