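import Groth.Agent.L27.Colim.Sections
import Mathlib.CategoryTheory.Sites.SheafCohomology.Basic
import Mathlib.Algebra.Homology.DerivedCategory.Ext.ExtClass
import Mathlib.Algebra.Homology.DerivedCategory.Ext.ExactSequences
import Mathlib.CategoryTheory.Abelian.GrothendieckAxioms.Basic
import Mathlib.CategoryTheory.Abelian.FunctorCategory

/-! # Cohomology commutes with filtered colimits on quasi-compact sites -/

universe u

open CategoryTheory CategoryTheory.Limits Opposite CategoryTheory.Abelian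

set_option linter.style.haveILetI false
set_option linter.unusedSectionVars false

namespace Groth.L27.Colim

variable {C : Type (u + 1)} [Category.{u} C] {J : GrothendieckTopology C}
  [HasSheafify J AddCommGrpCat.{u + 1}] [J.HasSheafCompose (forget AddCommGrpCat.{u + 1})]
  [J.WEqualsLocallyBijective AddCommGrpCat.{u + 1}]
  [HasExt.{u + 1} (Sheaf J AddCommGrpCat.{u + 1})] [EnoughInjectives (Sheaf J AddCommGrpCat.{u + 1})]
  {S : C → Prop} (hS : Good J S) {T : C} (hT : IsTerminal T) (hT₀ : S T)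

include hS hT hT₀ in
theorem exists_map_H0 {E : ShortComplex (Sheaf J AddCommGrpCat.{u + 1})} (hE : E.ShortExact)
    (hA : Acyc S E.X₁) (x : Sheaf.H E.X₃ 0) : ∃ y, Sheaf.H.map E.g 0 y = x := by
  obtain ⟨b, hb⟩ := surjective_of_acyc hS hE hA hT₀ (Sheaf.H.equiv₀ E.X₃ hT x)
  exact ⟨(Sheaf.H.equiv₀ E.X₂ hT).symm b, by rw [Sheaf.H.equiv₀_symm_naturality, hb, AddEquiv.symm_apply_apply]⟩

include hS hT hT₀ in
/-- Cech exact sheaves are acyclic. -/
theorem subsingleton_H_of_acyc (n : ℕ) (A : Sheaf J AddCommGrpCat.{u + 1}) (hA : Acyc S A) :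
    Subsingleton (Sheaf.H A (n + 1)) := by
  induction n generalizing A with
  | zero =>
    let E := ShortComplex.mk (Injective.ι A) (cokernel.π _) (cokernel.condition _)
    have hE : E.ShortExact :=
      { exact := ShortComplex.exact_of_g_is_cokernel _ (cokernelIsCokernel _) }
    refine subsingleton_of_forall_eq 0 fun x => ?_
    obtain ⟨y, hy⟩ := Ext.covariant_sequence_exact₁ _ hE x (Ext.eq_zero_of_injective _) (zero_add 1)
    obtain ⟨z, hz⟩ := exists_map_H0 hS hT hT₀ hE hA y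
    rw [← hy, ← hz, Sheaf.H.map_apply, Ext.comp_assoc_of_second_deg_zero, ShortComplex.ShortExact.comp_extClass,
      Ext.comp_zero]
  | succ n ih =>
    let E := ShortComplex.mk (Injective.ι A) (cokernel.π _) (cokernel.condition _)
    have hE : E.ShortExact :=
      { exact := ShortComplex.exact_of_g_is_cokernel _ (cokernelIsCokernel _) }
    haveI := ih _ (acyc_X₃ hS hE hA (acyc_of_injective (Injective.under A)))
    refine subsingleton_of_forall_eq 0 fun x => ?_
    obtain ⟨y, hy⟩ := Ext.covariant_sequence_exact₁ _ hE x (Ext.eq_zero_of_injective _) rfl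
    rw [← hy, Subsingleton.elim y 0, Ext.zero_comp]

variable {Λ : Type u} [SmallCategory Λ] [IsFiltered Λ]

/-- Cohomology in degree `n` commutes with the colimit. -/
def Commutes (n : ℕ) {D : Λ ⥤ Sheaf J AddCommGrpCat.{u + 1}} (c : Cocone D) : Prop :=
  (∀ ξ : Sheaf.H c.pt n, ∃ (j : Λ) (η : Sheaf.H (D.obj j) n), Sheaf.H.map (c.ι.app j) n η = ξ) ∧
    ∀ (j : Λ) (η : Sheaf.H (D.obj j) n), Sheaf.H.map (c.ι.app j) n η = 0 →
      ∃ (k : Λ) (f : j ⟶ k), Sheaf.H.map (D.map f) n η = 0

include hS hT hT₀ in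
theorem commutes_zero {D : Λ ⥤ Sheaf J AddCommGrpCat.{u + 1}} {c : Cocone D} (hc : IsColimit c) :
    Commutes 0 c := by
  refine ⟨fun ξ => ?_, fun j η h => ?_⟩
  · obtain ⟨j, y, hy⟩ := exists_rep hS hc hT₀ (Sheaf.H.equiv₀ c.pt hT ξ)
    exact ⟨j, (Sheaf.H.equiv₀ _ hT).symm y, by
      rw [Sheaf.H.equiv₀_symm_naturality, hy]; exact AddEquiv.symm_apply_apply _ _⟩
  · obtain ⟨k, f, hf⟩ := exists_map_eq_zero hS hc hT₀ j (Sheaf.H.equiv₀ _ hT η)
      ((Sheaf.H.equiv₀_naturality hT (c.ι.app j) η).trans ((congrArg _ h).trans (map_zero _)))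
    exact ⟨k, f, (Sheaf.H.equiv₀ _ hT).injective
      ((Sheaf.H.equiv₀_naturality hT (D.map f) η).symm.trans (hf.trans (map_zero _).symm))⟩

theorem Commutes.of_isColimit {n : ℕ} {D : Λ ⥤ Sheaf J AddCommGrpCat.{u + 1}} {c c' : Cocone D}
    (hc : IsColimit c) (hc' : IsColimit c') (h : Commutes n c) : Commutes n c' := by
  let e := hc.coconePointUniqueUpToIso hc'
  have he : ∀ j, c.ι.app j ≫ e.hom = c'.ι.app j := fun j => hc.comp_coconePointUniqueUpToIso_hom hc' j
  refine ⟨fun ξ => ?_, fun j η hη => h.2 j η ?_⟩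
  · obtain ⟨j, η, hη⟩ := h.1 (Sheaf.H.map e.inv n ξ)
    exact ⟨j, η, by rw [← he, Sheaf.H.map_comp_apply, hη, ← Sheaf.H.map_comp_apply, e.inv_hom_id,
      Sheaf.H.map_id_apply]⟩
  · rw [← he, Sheaf.H.map_comp_apply] at hη
    have := congrArg (Sheaf.H.map e.inv n) hη
    rw [← Sheaf.H.map_comp_apply, e.hom_inv_id] at this
    exact (Sheaf.H.map_id_apply _).symm.trans (this.trans (map_zero _))

variable [HasExactColimitsOfShape Λ (Sheaf J AddCommGrpCat.{u + 1})]

omit [IsFiltered Λ] in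
/-- A diagram embeds in a pointwise injective one. -/
theorem exists_embedding (D : Λ ⥤ Sheaf J AddCommGrpCat.{u + 1}) :
    ∃ (I : Λ ⥤ Sheaf J AddCommGrpCat.{u + 1}) (η : D ⟶ I), Mono η ∧ ∀ k, Injective (I.obj k) := by
  let I : Λ ⥤ Sheaf J AddCommGrpCat.{u + 1} :=
    { obj := fun k => ∏ᶜ fun p : Σ j : Λ, (k ⟶ j) => Injective.under (D.obj p.1)
      map := fun {k k'} f => Pi.lift fun p => Pi.π (fun p : Σ j : Λ, (k ⟶ j) => Injective.under (D.obj p.1))
        ⟨p.1, f ≫ p.2⟩
      map_id := fun k => Pi.hom_ext _ _ fun ⟨j, g⟩ => by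
        rw [Pi.lift_π, Category.id_comp]
        dsimp only
        rw [Category.id_comp]
      map_comp := fun {a b d} f g => Pi.hom_ext _ _ fun ⟨j, h⟩ => by
        simp
        congr 2
        exact Category.assoc _ _ _ }
  let η : D ⟶ I :=
    { app := fun k => Pi.lift fun p => D.map p.2 ≫ Injective.ι (D.obj p.1)
      naturality := fun k k' f => Pi.hom_ext _ _ fun ⟨j, h⟩ => by
        simp only [I, Category.assoc, Pi.lift_π, D.map_comp] }
  refine ⟨I, η, ?_, fun k => inferInstanceAs (Injective (∏ᶜ fun p : Σ j : Λ, (k ⟶ j) => Injective.under (D.obj p.1)))⟩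
  haveI : ∀ k, Mono (η.app k) := fun k => by
    have e : η.app k ≫ Pi.π (fun p : Σ j : Λ, (k ⟶ j) => Injective.under (D.obj p.1)) ⟨k, 𝟙 k⟩ =
        Injective.ι (D.obj k) := by simp [η, I]
    exact mono_of_mono_fac e
  exact NatTrans.mono_of_mono_app η

include hS hT hT₀ in
theorem commutes (n : ℕ) (D : Λ ⥤ Sheaf J AddCommGrpCat.{u + 1}) (c : Cocone D) (hc : IsColimit c) :
    Commutes n c := by
  induction n generalizing D with
  | zero => exact commutes_zero hS hT hT₀ hc
  | succ n ih =>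
    refine Commutes.of_isColimit (colimit.isColimit D) hc ?_
    clear hc c
    obtain ⟨I, η, hη, hI⟩ := exists_embedding D
    let Q := cokernel η
    let π : I ⟶ Q := cokernel.π η
    let E := ShortComplex.mk η π (cokernel.condition η)
    have hE : E.ShortExact :=
      { exact := ShortComplex.exact_of_g_is_cokernel _ (cokernelIsCokernel _) }
    haveI : PreservesFiniteLimits (colim (J := Λ) (C := Sheaf J AddCommGrpCat.{u + 1})) :=
      HasExactColimitsOfShape.preservesFiniteLimits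
    have hEc : (E.map colim).ShortExact := hE.map_of_exact _
    have hEk : ∀ k, (E.map ((evaluation Λ _).obj k)).ShortExact := fun k => hE.map_of_exact _
    let δ : ∀ k, Sheaf.H (Q.obj k) n → Sheaf.H (D.obj k) (n + 1) := fun k y => y.comp (hEk k).extClass rfl
    let δc : Sheaf.H (colimit Q) n → Sheaf.H (colimit D) (n + 1) := fun y => y.comp hEc.extClass rfl
    have hnat : ∀ k (y : Sheaf.H (Q.obj k) n),
        Sheaf.H.map (colimit.ι D k) (n + 1) (δ k y) = δc (Sheaf.H.map (colimit.ι Q k) n y) := fun k y => by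
      let φ : E.map ((evaluation Λ _).obj k) ⟶ E.map colim :=
        { τ₁ := colimit.ι D k
          τ₂ := colimit.ι I k
          τ₃ := colimit.ι Q k
          comm₁₂ := (colimit.ι_map η k)
          comm₂₃ := (colimit.ι_map π k) }
      show (y.comp (hEk k).extClass rfl).comp (Ext.mk₀ φ.τ₁) (add_zero (n + 1)) =
        (y.comp (Ext.mk₀ φ.τ₃) (add_zero n)).comp hEc.extClass rfl
      exact (Ext.comp_assoc_of_third_deg_zero _ _ _ _).trans ((congrArg (fun z => y.comp z rfl)
        (ShortComplex.ShortExact.extClass_naturality (hEk k) hEc φ)).trans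
          (Ext.comp_assoc_of_second_deg_zero _ _ _ _).symm)
    have htrans : ∀ {k m} (f : k ⟶ m) (y : Sheaf.H (Q.obj k) n),
        Sheaf.H.map (D.map f) (n + 1) (δ k y) = δ m (Sheaf.H.map (Q.map f) n y) := fun {k m} f y => by
      let φ : E.map ((evaluation Λ _).obj k) ⟶ E.map ((evaluation Λ _).obj m) :=
        { τ₁ := D.map f
          τ₂ := I.map f
          τ₃ := Q.map f
          comm₁₂ := η.naturality f
          comm₂₃ := π.naturality f }
      show (y.comp (hEk k).extClass rfl).comp (Ext.mk₀ φ.τ₁) (add_zero (n + 1)) =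
        (y.comp (Ext.mk₀ φ.τ₃) (add_zero n)).comp (hEk m).extClass rfl
      exact (Ext.comp_assoc_of_third_deg_zero _ _ _ _).trans ((congrArg (fun z => y.comp z rfl)
        (ShortComplex.ShortExact.extClass_naturality (hEk k) (hEk m) φ)).trans
          (Ext.comp_assoc_of_second_deg_zero _ _ _ _).symm)
    haveI := subsingleton_H_of_acyc hS hT hT₀ n (colimit I)
      (acyc_colimit hS (colimit.isColimit I) fun k => haveI := hI k; acyc_of_injective _)
    obtain ⟨hQ₁, hQ₂⟩ := ih Q (colimit.cocone _) (colimit.isColimit _)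
    obtain ⟨hI₁, -⟩ := ih I (colimit.cocone _) (colimit.isColimit _)
    refine ⟨fun ξ => ?_, fun j ξ hξ => ?_⟩
    · obtain ⟨y, rfl⟩ := Ext.covariant_sequence_exact₁ _ hEc ξ
        (Subsingleton.elim (α := Sheaf.H (colimit I) (n + 1)) _ _) rfl
      obtain ⟨j, y', rfl⟩ := hQ₁ y
      exact ⟨j, δ j y', hnat j y'⟩
    · haveI : Injective (E.map ((evaluation Λ _).obj j)).X₂ := hI j
      obtain ⟨y, rfl⟩ : ∃ y : Sheaf.H (Q.obj j) n, δ j y = ξ :=
        Ext.covariant_sequence_exact₁ _ (hEk j) ξ (Ext.eq_zero_of_injective _) rfl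
      obtain ⟨θ, hθ⟩ := Ext.covariant_sequence_exact₃ _ hEc (Sheaf.H.map (colimit.ι Q j) n y) rfl
        ((hnat j y).symm.trans hξ)
      obtain ⟨k, θ', hθ'⟩ := hI₁ θ
      let m := IsFiltered.max j k
      let a := IsFiltered.leftToMax j k
      let b := IsFiltered.rightToMax j k
      let z : Sheaf.H (Q.obj m) n := Sheaf.H.map (Q.map a) n y - Sheaf.H.map (π.app k ≫ Q.map b) n θ'
      have hz : Sheaf.H.map (colimit.ι Q m) n z = 0 := by
        rw [map_sub, ← Sheaf.H.map_comp_apply, ← Sheaf.H.map_comp_apply, Category.assoc, colimit.w, colimit.w,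
          ← colimit.ι_map π k, Sheaf.H.map_comp_apply, sub_eq_zero]
        exact hθ.symm.trans (congrArg (Sheaf.H.map (colim.map π) n) hθ'.symm)
      obtain ⟨r, g, hg⟩ := hQ₂ m z hz
      refine ⟨r, a ≫ g, ?_⟩
      have e : Sheaf.H.map (Q.map (a ≫ g)) n y = Sheaf.H.map (π.app r) n (Sheaf.H.map (I.map (b ≫ g)) n θ') := by
        rw [← Sheaf.H.map_comp_apply, π.naturality, ← sub_eq_zero]
        refine Eq.trans ?_ hg
        show _ = Sheaf.H.map (Q.map g) n (Sheaf.H.map (Q.map a) n y - Sheaf.H.map (π.app k ≫ Q.map b) n θ')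
        rw [map_sub, ← Sheaf.H.map_comp_apply, ← Sheaf.H.map_comp_apply, Category.assoc, ← Q.map_comp, ← Q.map_comp]
      refine (htrans (a ≫ g) y).trans ((congrArg (δ r) e).trans ?_)
      exact (Ext.comp_assoc_of_second_deg_zero _ _ _ _).trans
        ((congrArg (fun z => (Sheaf.H.map (I.map (b ≫ g)) n θ').comp z rfl) (hEk r).comp_extClass).trans
          (Ext.comp_zero _ _ _ _ _))

include hS hT hT₀ in
/-- Cohomology of a coherent site commutes with filtered colimits. -/
theorem preservesColimitsOfShape_functorH (n : ℕ) :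
    PreservesColimitsOfShape Λ (Sheaf.functorH J n : Sheaf J AddCommGrpCat.{u + 1} ⥤ AddCommGrpCat.{u + 1}) := by
  haveI : ReflectsColimitsOfShape Λ (forget AddCommGrpCat.{u + 1}) :=
    reflectsColimitsOfShape_of_reflectsIsomorphisms
  refine ⟨fun {D} => ⟨fun {c} hc => ⟨isColimitOfReflects (forget AddCommGrpCat.{u + 1})
    (Types.FilteredColimit.isColimitOf _ _ (fun x => ?_) fun i j xi xj h => ?_)⟩⟩⟩
  · obtain ⟨j, y, rfl⟩ := (commutes hS hT hT₀ n D c hc).1 x
    exact ⟨j, y, rfl⟩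
  · obtain ⟨xi, rfl⟩ : ∃ x : Sheaf.H (D.obj i) n, x = xi := ⟨xi, rfl⟩
    obtain ⟨xj, rfl⟩ : ∃ x : Sheaf.H (D.obj j) n, x = xj := ⟨xj, rfl⟩
    let m := IsFiltered.max i j
    let a := IsFiltered.leftToMax i j
    let b := IsFiltered.rightToMax i j
    have h' : Sheaf.H.map (c.ι.app i) n xi = Sheaf.H.map (c.ι.app j) n xj := h
    obtain ⟨k, g, hg⟩ := (commutes hS hT hT₀ n D c hc).2 m (Sheaf.H.map (D.map a) n xi - Sheaf.H.map (D.map b) n xj) (by
      rw [map_sub, ← Sheaf.H.map_comp_apply, ← Sheaf.H.map_comp_apply, c.w, c.w, h', sub_self])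
    refine ⟨k, a ≫ g, b ≫ g, ?_⟩
    rw [map_sub, sub_eq_zero, ← Sheaf.H.map_comp_apply, ← Sheaf.H.map_comp_apply, ← D.map_comp, ← D.map_comp] at hg
    exact hg

end Groth.L27.Colim
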