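import Groth.Agent.L27.Colim.InjExact
import Mathlib.CategoryTheory.Sites.EpiMono
import Mathlib.CategoryTheory.Sites.Abelian
import Mathlib.CategoryTheory.Sites.Sheafification
import Mathlib.Algebra.Category.Grp.Limits
import Mathlib.Algebra.Category.Grp.Colimits
import Mathlib.Algebra.Category.Grp.EpiMono
import Mathlib.Algebra.Homology.ShortComplex.ShortExact
import Mathlib.CategoryTheory.Preadditive.Injective.Basic

/-! # Cech acyclic sheaves have exact sections on quasi-compact objects -/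

universe u

open CategoryTheory CategoryTheory.Limits Opposite

set_option linter.style.haveILetI false

namespace Groth.L27.Colim

variable {C : Type (u + 1)} [Category.{u} C] {J : GrothendieckTopology C}

/-- A single covering morphism. -/
def IsCov (J : GrothendieckTopology C) {K L : C} (p : L ⟶ K) : Prop :=
  Sieve.generate (Presieve.singleton p) ∈ J K

/-- A class of quasi-compact objects: self products exist in the class, and covering sieves are
refined by single coverings from the class. -/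
structure Good (J : GrothendieckTopology C) (S : C → Prop) : Prop where
  tup : ∀ {K L : C} (p : L ⟶ K), S K → S L → IsCov J p → ∀ n : ℕ,
    ∃ (W : C) (t : Tup p n W), S W ∧ ∀ (V : C) (t' : Tup p n V), ∃! g : V ⟶ W, t.res g = t'
  refine_cover : ∀ (K : C), S K → ∀ R ∈ J K, ∃ (L : C) (p : L ⟶ K), S L ∧ IsCov J p ∧
    ∃ (ι : Type u) (_ : Finite ι) (Y : ι → C) (q : ∀ i, Y i ⟶ L), (∀ i, S (Y i)) ∧ (∀ i, R.arrows (q i ≫ p)) ∧
      ∀ F : Sheaf J AddCommGrpCat.{u + 1},
        Function.Bijective fun (x : F.obj.obj (op L)) (i : ι) => F.obj.map (q i).op x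

variable (F : Sheaf J AddCommGrpCat.{u + 1})

theorem map_comp {U V W : C} (i : U ⟶ V) (j : V ⟶ W) (x : F.obj.obj (op W)) :
    F.obj.map i.op (F.obj.map j.op x) = F.obj.map (i ≫ j).op x :=
  (Functor.map_comp_apply F.obj j.op i.op x).symm

theorem isSheafFor_singleton [J.HasSheafCompose (forget AddCommGrpCat.{u + 1})] {K L : C} {p : L ⟶ K}
    (hp : IsCov J p) : Presieve.IsSheafFor (F.obj ⋙ forget AddCommGrpCat.{u + 1}) (Presieve.singleton p) :=
  (Presieve.isSheafFor_iff_generate _).2 (((isSheaf_iff_isSheaf_of_type _ _).1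
    ((Presheaf.isSheaf_iff_isSheaf_forget J F.obj (forget AddCommGrpCat.{u + 1})).1 F.property)) _ hp)

variable [J.HasSheafCompose (forget AddCommGrpCat.{u + 1})]

theorem cov_injective {K L : C} {p : L ⟶ K} (hp : IsCov J p) :
    Function.Injective (F.obj.map p.op) := fun x y h =>
  (isSheafFor_singleton F hp).isSeparatedFor.ext fun _ g hg => by
    cases hg
    exact h

theorem cov_glue {K L : C} {p : L ⟶ K} (hp : IsCov J p) (y : F.obj.obj (op L))
    (h : ∀ (V : C) (t : Tup p 1 V), F.obj.map (t.1 0).op y = F.obj.map (t.1 1).op y) :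
    ∃ x, F.obj.map p.op x = y := by
  obtain ⟨x, hx, -⟩ := Presieve.isSheafFor_singleton.1 (isSheafFor_singleton F hp) y fun {Z} g₁ g₂ e =>
    h Z ⟨![g₁, g₂], fun k l => by fin_cases k <;> fin_cases l <;> simp [e]⟩
  exact ⟨x, hx⟩

variable [HasSheafify J AddCommGrpCat.{u + 1}] {E : ShortComplex (Sheaf J AddCommGrpCat.{u + 1})}

theorem app_injective (hE : E.ShortExact) (U : C) : Function.Injective (E.f.hom.app (op U)) := by
  have := hE.mono_f
  have : Mono ((sheafToPresheaf J AddCommGrpCat.{u + 1}).map E.f) := inferInstance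
  exact (AddCommGrpCat.mono_iff_injective _).1 ((NatTrans.mono_iff_mono_app _).1 this (op U))

theorem app_exact (hE : E.ShortExact) (U : C) (x : E.X₂.obj.obj (op U)) (hx : E.g.hom.app (op U) x = 0) :
    ∃ y, E.f.hom.app (op U) y = x := by
  have h := (hE.exact.map_of_mono_of_preservesKernel
    (sheafToPresheaf J AddCommGrpCat.{u + 1} ⋙ (evaluation _ _).obj (op U)) hE.mono_f inferInstance)
  rw [ShortComplex.ab_exact_iff] at h
  exact h x hx

theorem app_comp (U : C) (x : E.X₁.obj.obj (op U)) : E.g.hom.app (op U) (E.f.hom.app (op U) x) = 0 :=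
  congr($(E.zero).hom.app (op U) x)

theorem exists_preimage (hE : E.ShortExact) {K L : C} {p : L ⟶ K} {n : ℕ} (b : Fam p E.X₂.obj n) (hb : IsNat b)
    (h : mapFam E.g.hom b = 0) : ∃ a : Fam p E.X₁.obj n, IsNat a ∧ mapFam E.f.hom a = b := by
  choose a ha using fun V t => app_exact hE V (b V t) (congrFun (congrFun h V) t)
  refine ⟨a, fun {V W} g t => app_injective hE W ?_, funext fun V => funext fun t => ha V t⟩
  rw [ha, hb g t, ← ha V t]
  exact (NatTrans.naturality_apply E.f.hom g.op _).symm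

theorem mapFam_injective (hE : E.ShortExact) {K L : C} {p : L ⟶ K} {n : ℕ} {a b : Fam p E.X₁.obj n}
    (h : mapFam E.f.hom a = mapFam E.f.hom b) : a = b :=
  funext fun V => funext fun t => app_injective hE V (congrFun (congrFun h V) t)

variable {S : C → Prop} (hS : Good J S)

/-- The class of Cech exact sheaves. -/
def Acyc (S : C → Prop) (A : Sheaf J AddCommGrpCat.{u + 1}) : Prop :=
  ∀ (K L : C) (p : L ⟶ K), S K → S L → IsCov J p → CechExact p A.obj

theorem acyc_of_injective (I : Sheaf J AddCommGrpCat.{u + 1}) [Injective I] : Acyc S I := fun _ _ _ _ _ _ => by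
  haveI : Injective I.obj := Injective.injective_of_adjoint (sheafificationAdjunction J AddCommGrpCat.{u + 1}) I
  exact cechExact_of_injective

variable [J.WEqualsLocallyBijective AddCommGrpCat.{u + 1}]

include hS in
theorem surjective_of_acyc (hE : E.ShortExact) (hA : Acyc S E.X₁) {K : C} (hK : S K)
    (c : E.X₃.obj.obj (op K)) : ∃ b, E.g.hom.app (op K) b = c := by
  have := hE.epi_g
  have : Sheaf.IsLocallySurjective E.g := (Sheaf.isLocallySurjective_iff_epi' (φ := E.g)).2 inferInstance
  obtain ⟨L, p, hL, hp, ι, _, Y, q, -, hq, hbij⟩ :=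
    hS.refine_cover K hK _ (Presheaf.imageSieve_mem J E.g.hom c)
  choose b hb using fun i => (hq i : ∃ t, E.g.hom.app _ t = E.X₃.obj.map (q i ≫ p).op c)
  obtain ⟨β, hβ⟩ := (hbij E.X₂).2 b
  have hgβ : E.g.hom.app (op L) β = E.X₃.obj.map p.op c := (hbij E.X₃).1 (funext fun i => by
    show E.X₃.obj.map (q i).op _ = E.X₃.obj.map (q i).op _
    rw [← NatTrans.naturality_apply E.g.hom (q i).op β, show E.X₂.obj.map (q i).op β = b i from congrFun hβ i,
      hb i, map_comp])
  -- the associated cochain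
  let x : Fam p E.X₂.obj 0 := fun V t => E.X₂.obj.map (t.1 0).op β
  have hx : IsNat x := fun {V W} g t => (map_comp E.X₂ g (t.1 0) β).symm
  have hgx : ∀ V (t : Tup p 0 V), E.g.hom.app (op V) (x V t) = E.X₃.obj.map (t.1 0 ≫ p).op c := fun V t => by
    show E.g.hom.app (op V) (E.X₂.obj.map (t.1 0).op β) = _
    rw [NatTrans.naturality_apply E.g.hom (t.1 0).op β, hgβ, map_comp]
  obtain ⟨a, ha, hax⟩ := exists_preimage hE (d x) hx.d (by
    funext V t
    show E.g.hom.app (op V) (∑ j : Fin 2, (-1 : ℤ) ^ (j : ℕ) • x V (t.face j)) = 0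
    simp only [Fin.sum_univ_two, Fin.val_zero, Fin.val_one, pow_zero, pow_one, one_smul, neg_smul,
      map_add, map_neg, hgx]
    rw [show (t.face 0).1 0 ≫ p = (t.face 1).1 0 ≫ p from t.2 _ _, add_neg_cancel])
  obtain ⟨a', ha', hda'⟩ := hA K L p hK hL hp 0 a ha (mapFam_injective hE (by
    rw [← d_mapFam, hax, d_d]
    funext V t
    exact (map_zero (E.f.hom.app (op V)).hom).symm))
  let z := x - mapFam E.f.hom a'
  have hz : d z = 0 := by rw [d_sub, d_mapFam, hda', hax, sub_self]
  have hzn : IsNat z := hx.sub (ha'.map _)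
  let t₁ : Tup p 0 L := ⟨fun _ => 𝟙 L, fun _ _ => rfl⟩
  have ht₁ : ∀ (V : C) (t : Tup p 0 V), z V t = E.X₂.obj.map (t.1 0).op (z L t₁) := fun V t => by
    refine Eq.trans (congrArg (z V) (Subtype.ext (funext fun k => ?_))) (hzn (t.1 0) t₁)
    rw [show k = 0 from Subsingleton.elim (α := Fin 1) k 0]
    exact (Category.comp_id _).symm
  obtain ⟨b₀, hb₀⟩ := cov_glue E.X₂ hp (z L t₁) (fun V t => by
    have : ∑ j : Fin 2, (-1 : ℤ) ^ (j : ℕ) • z V (t.face j) = 0 := congrFun (congrFun hz V) t
    simp only [Fin.sum_univ_two, Fin.val_zero, Fin.val_one, pow_zero, pow_one, one_smul, neg_smul,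
      ← sub_eq_add_neg, sub_eq_zero] at this
    exact ((ht₁ V (t.face 0)).symm.trans (this.trans (ht₁ V (t.face 1)))).symm)
  refine ⟨b₀, cov_injective E.X₃ hp ?_⟩
  rw [← NatTrans.naturality_apply E.g.hom p.op b₀, hb₀]
  show E.g.hom.app (op L) (x L t₁ - E.f.hom.app (op L) (a' L t₁)) = _
  rw [map_sub, app_comp, sub_zero, hgx]
  exact congrArg (fun m => E.X₃.obj.map (Quiver.Hom.op m) c) (Category.id_comp p)

include hS in
theorem acyc_X₃ (hE : E.ShortExact) (hA : Acyc S E.X₁) (hB : Acyc S E.X₂) : Acyc S E.X₃ := by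
  intro K L p hK hL hp n c hc hdc
  obtain ⟨W, t, hW, huniv⟩ := hS.tup p hK hL hp (n + 1)
  obtain ⟨β, hβ⟩ := surjective_of_acyc hS hE hA hW (c W t)
  choose g hg hguniq using fun V t' => huniv V t'
  let b : Fam p E.X₂.obj (n + 1) := fun V t' => E.X₂.obj.map (g V t').op β
  have hb : IsNat b := fun {V V'} i t' => by
    show E.X₂.obj.map (g V' (t'.res i)).op β = E.X₂.obj.map i.op (E.X₂.obj.map (g V t').op β)
    rw [map_comp, ← hguniq V' (t'.res i) (i ≫ g V t') (by
      show t.res (i ≫ g V t') = t'.res i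
      rw [← Tup.res_res, hg V t'])]
  have hgb : mapFam E.g.hom b = c := by
    funext V t'
    show E.g.hom.app (op V) (E.X₂.obj.map (g V t').op β) = c V t'
    rw [NatTrans.naturality_apply E.g.hom (g V t').op β, hβ, ← hc, hg V t']
  obtain ⟨a, ha, hab⟩ := exists_preimage hE (d b) hb.d (by rw [← d_mapFam, hgb, hdc])
  obtain ⟨a', ha', hda'⟩ := hA K L p hK hL hp (n + 1) a ha (mapFam_injective hE (by
    rw [← d_mapFam, hab, d_d]
    funext V t'
    exact (map_zero (E.f.hom.app (op V)).hom).symm))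
  obtain ⟨b', hb', hdb'⟩ := hB K L p hK hL hp n (b - mapFam E.f.hom a') (hb.sub (ha'.map _))
    (by rw [d_sub, d_mapFam, hda', hab, sub_self])
  refine ⟨mapFam E.g.hom b', hb'.map _, ?_⟩
  rw [d_mapFam, hdb']
  funext V t'
  show E.g.hom.app (op V) (b V t' - E.f.hom.app (op V) (a' V t')) = c V t'
  rw [map_sub, app_comp, sub_zero]
  exact congrFun (congrFun hgb V) t'

end Groth.L27.Colim
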