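import Mathlib.AlgebraicTopology.AlternatingFaceMapComplex
import Mathlib.Algebra.Category.Grp.Abelian
import Mathlib.CategoryTheory.Sites.Sheaf

/-! # Cech cochains of a single morphism, as natural families -/

universe u

open CategoryTheory CategoryTheory.Limits Opposite Simplicial

namespace Groth.L27.Colim

variable {C : Type (u + 1)} [Category.{u} C] {K L : C} (p : L ⟶ K)

/-- Tuples of morphisms to `L` agreeing in `K`. -/
def Tup (n : ℕ) (V : C) : Type u := {f : Fin (n + 1) → (V ⟶ L) // ∀ k l, f k ≫ p = f l ≫ p}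

variable {p}

/-- Precomposition. -/
def Tup.res {n : ℕ} {V W : C} (g : W ⟶ V) (t : Tup p n V) : Tup p n W :=
  ⟨fun k => g ≫ t.1 k, fun k l => by rw [Category.assoc, Category.assoc, t.2 k l]⟩

/-- Reindexing. -/
def Tup.reindex {n m : ℕ} (φ : Fin (m + 1) → Fin (n + 1)) {V : C} (t : Tup p n V) : Tup p m V :=
  ⟨t.1 ∘ φ, fun _ _ => t.2 _ _⟩

/-- Forgetting one entry. -/
def Tup.face {n : ℕ} (j : Fin (n + 2)) {V : C} (t : Tup p (n + 1) V) : Tup p n V :=
  t.reindex j.succAbove

theorem Tup.res_reindex {n m : ℕ} (φ : Fin (m + 1) → Fin (n + 1)) {V W : C} (g : W ⟶ V) (t : Tup p n V) :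
    (t.res g).reindex φ = (t.reindex φ).res g := rfl

theorem Tup.res_res {n : ℕ} {V W U : C} (h : U ⟶ W) (g : W ⟶ V) (t : Tup p n V) :
    (t.res g).res h = t.res (h ≫ g) :=
  Subtype.ext (funext fun _ => (Category.assoc _ _ _).symm)

variable (p) (P : Cᵒᵖ ⥤ AddCommGrpCat.{u + 1})

/-- Families indexed by tuples. -/
abbrev Fam (n : ℕ) : Type (u + 1) := ∀ V : C, Tup p n V → P.obj (op V)

variable {p P}

/-- Natural families, i.e. cochains. -/
def IsNat {n : ℕ} (x : Fam p P n) : Prop :=
  ∀ {V W : C} (g : W ⟶ V) (t : Tup p n V), x W (t.res g) = P.map g.op (x V t)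

/-- The Cech differential. -/
def d {n : ℕ} (x : Fam p P n) : Fam p P (n + 1) :=
  fun V t => ∑ j : Fin (n + 2), (-1 : ℤ) ^ (j : ℕ) • x V (t.face j)

theorem IsNat.d {n : ℕ} {x : Fam p P n} (hx : IsNat x) : IsNat (d x) := fun {V W} g t => by
  unfold Colim.d
  rw [map_sum]
  refine Finset.sum_congr rfl fun j _ => ?_
  rw [map_zsmul]
  exact congrArg _ (hx g (t.face j))

theorem IsNat.sub {n : ℕ} {x y : Fam p P n} (hx : IsNat x) (hy : IsNat y) : IsNat (x - y) := fun {V W} g t => by
  show x W _ - y W _ = P.map g.op (x V t - y V t)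
  rw [map_sub, hx g t, hy g t]

theorem d_sub {n : ℕ} (x y : Fam p P n) : d (x - y) = d x - d y := by
  funext V t
  simp only [d, Pi.sub_apply, zsmul_sub, Finset.sum_sub_distrib]

variable {Q : Cᵒᵖ ⥤ AddCommGrpCat.{u + 1}}

/-- Applying a morphism of presheaves. -/
def mapFam (φ : P ⟶ Q) {n : ℕ} (x : Fam p P n) : Fam p Q n := fun V t => φ.app (op V) (x V t)

theorem IsNat.map (φ : P ⟶ Q) {n : ℕ} {x : Fam p P n} (hx : IsNat x) : IsNat (mapFam φ x) := fun {V W} g t => by
  show φ.app _ (x W _) = Q.map g.op (φ.app _ (x V t))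
  rw [hx g t]
  exact NatTrans.naturality_apply φ g.op _

theorem d_mapFam (φ : P ⟶ Q) {n : ℕ} (x : Fam p P n) : d (mapFam φ x) = mapFam φ (d x) := by
  funext V t
  simp only [d, mapFam, map_sum, map_zsmul]

variable (p P) in
/-- The cosimplicial group of families at one object. -/
def cosimp (V : C) : CosimplicialObject AddCommGrpCat.{u + 1} where
  obj n := AddCommGrpCat.of (Tup p n.len V → P.obj (op V))
  map φ := AddCommGrpCat.ofHom
    { toFun := fun x t => x (t.reindex φ.toOrderHom)
      map_zero' := rfl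
      map_add' := fun _ _ => rfl }
  map_id _ := rfl
  map_comp _ _ := rfl

theorem δ_cosimp (V : C) (n : ℕ) (j : Fin (n + 2)) (x : Tup p n V → P.obj (op V)) (t : Tup p (n + 1) V) :
    (show Tup p (n + 1) V → P.obj (op V) from (cosimp p P V).δ j x) t = x (t.face j) := rfl

theorem objD_cosimp (V : C) (n : ℕ) (x : (cosimp p P V).obj (SimplexCategory.mk n)) (t : Tup p (n + 1) V) :
    (show Tup p (n + 1) V → P.obj (op V) from
      AlgebraicTopology.AlternatingCofaceMapComplex.objD (cosimp p P V) n x) t =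
      ∑ j : Fin (n + 2), (-1 : ℤ) ^ (j : ℕ) •
        (show Tup p n V → P.obj (op V) from x) (t.face j) := by
  let ev : (cosimp p P V).obj (SimplexCategory.mk (n + 1)) →+ P.obj (op V) :=
    { toFun := fun z => (show Tup p (n + 1) V → P.obj (op V) from z) t
      map_zero' := rfl
      map_add' := fun _ _ => rfl }
  have h : AlgebraicTopology.AlternatingCofaceMapComplex.objD (cosimp p P V) n x =
      ∑ j : Fin (n + 2), (-1 : ℤ) ^ (j : ℕ) • (cosimp p P V).δ j x := by
    unfold AlgebraicTopology.AlternatingCofaceMapComplex.objD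
    change (AddCommGrpCat.homAddEquiv (∑ j : Fin (n + 2), (-1 : ℤ) ^ (j : ℕ) • (cosimp p P V).δ j)) x = _
    simp only [map_sum, map_zsmul, AddMonoidHom.finsetSum_apply, AddMonoidHom.smul_apply]
    rfl
  refine (congrArg ev h).trans ((map_sum ev _ _).trans (Finset.sum_congr rfl fun j _ => ?_))
  rw [map_zsmul]
  rfl

theorem d_d {n : ℕ} (x : Fam p P n) : d (d x) = 0 := by
  funext V t
  have h : (show Tup p (n + 1 + 1) V → P.obj (op V) from
      AlgebraicTopology.AlternatingCofaceMapComplex.objD (cosimp p P V) (n + 1)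
        (AlgebraicTopology.AlternatingCofaceMapComplex.objD (cosimp p P V) n (x V))) t = 0 :=
    congrFun (ConcreteCategory.congr_hom
      (AlgebraicTopology.AlternatingCofaceMapComplex.d_squared (cosimp p P V) n) (x V)) t
  refine Eq.trans ?_ h
  refine Eq.trans ?_ (objD_cosimp V (n + 1) _ t).symm
  exact Finset.sum_congr rfl fun j _ => congrArg _ (objD_cosimp V n (x V) (t.face j)).symm

variable (p P) in
/-- The Cech complex is exact in positive degrees. -/
def CechExact : Prop :=
  ∀ (n : ℕ) (x : Fam p P (n + 1)), IsNat x → d x = 0 → ∃ y : Fam p P n, IsNat y ∧ d y = x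

end Groth.L27.Colim
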